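import Groth.Agent.L23.Points
import Groth.Agent.L19.QCohFpqc.Sx
import Groth.Prelude.Def_AlgSpEt
import Groth.Prelude.Def_AlgSp4

/-!
# Affine etale objects over a flat cover
-/

universe u

open CategoryTheory CategoryTheory.Limits AlgebraicGeometry Opposite AlgSp TopologicalSpace

set_option backward.isDefEq.respectTransparency false
set_option backward.isDefEq.respectTransparency.types false
set_option linter.style.haveILetI false

namespace Groth.L23.CohAff

open Groth.L19.QCohFpqc (IsCov)

variable {S : Scheme.{u}}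

/-- Every scheme etale over the target of a flat surjective morphism has a flat cover by affine schemes etale over the
source. -/
theorem exists_flat_cover {M M' : Space S} (g : M'.obj ⟶ M.obj) (hgf : LocP @Flat g) (hgs : IsSurjectiveMor g)
    (E : EtOver M.obj) :
    ∃ (κ : Type u) (V : κ → EtOver M'.obj) (h : ∀ i, (V i).obj.left ⟶ E.obj.left),
      (∀ i, IsAffine (V i).obj.left.left) ∧ (∀ i, (V i).obj.hom ≫ g = (yon S).map (h i) ≫ E.obj.hom) ∧
        IsCov (fun i => (h i).left) := by
  obtain ⟨U, p, hp, hps⟩ := M'.property.atlas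
  have hE : RepWith @Etale E.obj.hom := E.property
  let W : Over S := hE.1.pullback (p ≫ g)
  let a : W ⟶ E.obj.left := hE.1.fst' (p ≫ g)
  let b : W ⟶ U := hE.1.snd (p ≫ g)
  have hb : Etale b.left := repWith_snd hE (p ≫ g)
  have sq : IsPullback ((yon S).map a) ((yon S).map b) E.obj.hom (p ≫ g) := hE.1.isPullback' (p ≫ g)
  let κ := {O : W.left.Opens // IsAffineOpen O}
  let V : κ → Over S := fun O => Over.mk (O.1.ι ≫ W.hom)
  let j : ∀ O : κ, V O ⟶ W := fun O => Over.homMk O.1.ι rfl
  have hV : ∀ O : κ, RepWith @Etale ((yon S).map (j O ≫ b) ≫ p) := fun O => by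
    haveI := hb
    exact MorphismProperty.comp_mem _ _ _
      ((repWith_yon_map_iff _ _).2 (show Etale (O.1.ι ≫ b.left) from inferInstance)) hp
  have heq : ∀ O : κ, ((yon S).map (j O ≫ b) ≫ p) ≫ g = (yon S).map (j O ≫ a) ≫ E.obj.hom := fun O => by
    rw [Functor.map_comp, Functor.map_comp, Category.assoc, Category.assoc, Category.assoc, sq.w]
  refine ⟨κ, fun O => EtOver.mk ((yon S).map (j O ≫ b) ≫ p) (hV O), fun O => j O ≫ a, fun O => O.2,
    heq, ⟨fun O => hgf _ _ _ (hV O) hE (heq O), fun t => ?_⟩⟩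
  obtain ⟨y, hy⟩ := hgs (Points.map E.obj.hom (Points.ofScheme E.obj.left t))
  obtain ⟨v, rfl⟩ := surjective_map_of_repWith hps y
  have hv : Points.map E.obj.hom (Points.ofScheme E.obj.left t) = Points.map (p ≫ g) v := by
    rw [Points.map_comp]; exact hy.symm
  obtain ⟨w, hw, -⟩ := exists_of_isPullback sq _ _ hv
  obtain ⟨_, ⟨O, hO, rfl⟩, hwO, -⟩ := W.left.isBasis_affineOpens.exists_subset_of_mem_open
    (Set.mem_univ (Points.toScheme W w)) isOpen_univ
  refine ⟨⟨O, hO⟩, (⟨Points.toScheme W w, hwO⟩ : Scheme.Opens.toScheme O), ?_⟩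
  show a.left (Scheme.Opens.ι O ⟨Points.toScheme W w, hwO⟩) = t
  rw [← Points.toScheme_ofPt a, Points.ofPt_eq_map_ofScheme]
  show Points.toScheme _ (Points.map ((yon S).map a) (Points.ofScheme W (Points.toScheme W w))) = t
  rw [Points.ofScheme_toScheme, hw, Points.toScheme_ofScheme]

end Groth.L23.CohAff
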