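import Groth.Agent.L23.CohAff.FlatBC
import Groth.Agent.L23.RelGen.Cast

/-!
# Sections of the pushforward along a base change
-/

universe t w'' v'' w' v' w v u

open CategoryTheory CategoryTheory.Limits AlgebraicGeometry Opposite TopologicalSpace

set_option backward.isDefEq.respectTransparency false
set_option backward.isDefEq.respectTransparency.types false
set_option linter.style.haveILetI false
set_option linter.unusedSectionVars false
set_option linter.unusedVariables false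
set_option maxHeartbeats 1000000

noncomputable section

namespace Groth.L23.CohAff

open StMod Groth.L23.RelGen

variable {S : Scheme.{u}} {𝒳 : BasedCategory.{v, w} (Over S)} {𝒴 : BasedCategory.{v', w'} (Over S)}
  {𝒴' : BasedCategory.{v'', w''} (Over S)} {g : 𝒴' ⥤ᵇ 𝒴} {π : 𝒳 ⥤ᵇ 𝒴}

/-- An object over the image comes from the base change, with the same object of the source. -/
theorem exists_obj (h : FibCat.IsFibGrpd 𝒴.p) (h' : FibCat.IsFibGrpd 𝒴'.p) {η' : 𝒴'.obj} (ξ : 𝒳.obj)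
    (b : π.obj ξ ⟶ g.obj η') :
    ∃ (y : 𝒴'.obj) (i : g.obj y ≅ π.obj ξ) (_ : 𝒴.p.IsHomLift (𝟙 (𝒴'.p.obj y)) i.hom) (α : y ⟶ η'),
      i.inv ≫ g.map α = b := by
  obtain ⟨y, γ, e, hγ⟩ := exists_lift h' (baseOver π ξ b ≫ eqToHom (g.w_obj η'))
  have hmap : 𝒴.p.map (g.map γ) = eqToHom (g.w_obj y) ≫ 𝒴'.p.map γ ≫ eqToHom (g.w_obj η').symm :=
    IsHomLift.fac' 𝒴.p (𝒴'.p.map γ) (g.map γ)
  have e' : 𝒴.p.obj (π.obj ξ) = 𝒴.p.obj (g.obj y) := (π.w_obj ξ).trans (e.symm.trans (g.w_obj y).symm)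
  have hfac : eqToHom e' ≫ 𝒴.p.map (g.map γ) = 𝒴.p.map b := by
    rw [hmap, hγ, baseOver]
    simp
  obtain ⟨k, ⟨hk, hk'⟩, -⟩ := existsUnique_factor h b (g.map γ) (eqToHom e') hfac
  haveI : IsIso (𝒴.p.map k) := by rw [hk]; infer_instance
  haveI := h.isStronglyCartesian k
  haveI : IsIso k := Functor.IsStronglyCartesian.isIso_of_base_isIso 𝒴.p (𝒴.p.map k) k
  refine ⟨y, (asIso k).symm, ?_, γ, hk'⟩
  refine IsHomLift.of_fac _ _ _ (g.w_obj y) ((π.w_obj ξ).trans e.symm) ?_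
  show _ = eqToHom _ ≫ 𝒴.p.map (inv k) ≫ eqToHom _
  rw [Functor.map_inv]
  simp [hk]

variable {η' : 𝒴'.obj}

/-- The arrow to the image of the object. -/
abbrev imArr (z : (FibCat.fp g π).obj) (α : z.obj.fst ⟶ η') : π.obj z.obj.snd ⟶ g.obj η' :=
  z.obj.iso.inv ≫ g.map α

theorem imArr_natural {z' z : (FibCat.fp g π).obj} (k : z' ⟶ z) (α : z.obj.fst ⟶ η') :
    π.map k.hom.snd ≫ imArr z α = imArr z' (k.hom.fst ≫ α) := by
  have hw := k.hom.w
  rw [imArr, imArr, g.toFunctor.map_comp, ← Category.assoc, ← Category.assoc]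
  refine congrArg (fun j => j ≫ g.map α) ?_
  rw [Iso.comp_inv_eq, Category.assoc, hw, Iso.inv_hom_id_assoc]

variable {F G : Mod 𝒳} {F' G' : Mod (FibCat.fp g π)}

/-- An identification of a module on the base change with the inverse image. -/
structure Ident (F : Mod 𝒳) (F' : Mod (FibCat.fp g π)) where
  /-- the identification of sections -/
  σ : ∀ z : (FibCat.fp g π).obj, Sec F z.obj.snd ≃+ Sec F' z
  nat : ∀ {z' z : (FibCat.fp g π).obj} (k : z' ⟶ z) (m : Sec F z.obj.snd),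
    F'.mapTop k (σ z m) = σ z' (F.mapTop k.hom.snd m)

/-- The identification of the inverse image. -/
def identComap (F : Mod 𝒳) : Ident (g := g) (π := π) F (Mod.comap (FibCat.fpSnd g π) F) where
  σ z := secC (FibCat.fpSnd g π) F z
  nat k m := secC_mapTop (FibCat.fpSnd g π) F k m

/-- The sections over the base change of a section over the image. -/
def up (I : Ident F F') (η' : 𝒴'.obj) (s : Mod.RelSect π F (g.obj η')) :
    Mod.RelSect (FibCat.fpFst g π) F' η' :=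
  ⟨fun z α => I.σ z (s.1 z.obj.snd (imArr z α)), fun z' z k α =>
    (I.nat k _).trans (congrArg (I.σ z') ((s.2 k.hom.snd (imArr z α)).trans
      (congrArg (s.1 z'.obj.snd) (imArr_natural k α))))⟩

theorem up_injective (hY : FibCat.IsFibGrpd 𝒴.p) (hY' : FibCat.IsFibGrpd 𝒴'.p) (I : Ident F F') :
    Function.Injective (up I η') := by
  intro s t e
  refine Mod.RelSect.ext _ _ _ fun ξ b => ?_
  obtain ⟨y, i, hi, α, rfl⟩ := exists_obj hY hY' ξ b
  let z : (FibCat.fp g π).obj := ⟨{ fst := y, snd := ξ, iso := i }, hi⟩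
  refine (I.σ z).injective ?_
  exact congrFun (congrFun (congrArg Subtype.val e) z) α

theorem exists_hom (hY : FibCat.IsFibGrpd 𝒴.p) (hY' : FibCat.IsFibGrpd 𝒴'.p) {z' z : (FibCat.fp g π).obj}
    (α' : z'.obj.fst ⟶ η') (α : z.obj.fst ⟶ η') (φ : z'.obj.snd ⟶ z.obj.snd)
    (h : π.map φ ≫ imArr z α = imArr z' α') : ∃ k : z' ⟶ z, k.hom.snd = φ ∧ k.hom.fst ≫ α = α' := by
  let m : g.obj z'.obj.fst ⟶ g.obj z.obj.fst := z'.obj.iso.hom ≫ π.map φ ≫ z.obj.iso.inv
  have hm : m ≫ g.map α = g.map α' := by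
    show (z'.obj.iso.hom ≫ π.map φ ≫ z.obj.iso.inv) ≫ g.map α = _
    rw [Category.assoc, Category.assoc, show π.map φ ≫ z.obj.iso.inv ≫ g.map α = z'.obj.iso.inv ≫ g.map α' from h,
      Iso.hom_inv_id_assoc]
  have hmap : ∀ {a b : 𝒴'.obj} (c : a ⟶ b), 𝒴.p.map (g.map c) =
      eqToHom (g.w_obj a) ≫ 𝒴'.p.map c ≫ eqToHom (g.w_obj b).symm := fun c =>
    IsHomLift.fac' 𝒴.p (𝒴'.p.map c) (g.map c)
  let q := eqToHom (g.w_obj z'.obj.fst).symm ≫ 𝒴.p.map m ≫ eqToHom (g.w_obj z.obj.fst)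
  have hq : q ≫ 𝒴'.p.map α = 𝒴'.p.map α' := by
    have h₂ := congrArg 𝒴.p.map hm
    rw [Functor.map_comp, hmap, hmap, ← Category.assoc, ← Category.assoc, ← Category.assoc (eqToHom _),
      cancel_mono] at h₂
    rw [← cancel_epi (eqToHom (g.w_obj z'.obj.fst))]
    simpa [q, Category.assoc] using h₂
  obtain ⟨t, ⟨ht, ht'⟩, -⟩ := existsUnique_factor hY' α' α q hq
  have hgt : g.map t = m := by
    refine (existsUnique_factor hY (g.map α') (g.map α) (𝒴.p.map m) ?_).unique ⟨?_, ?_⟩ ⟨rfl, hm⟩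
    · rw [← Functor.map_comp, hm]
    · rw [hmap, ht]; simp [q]
    · rw [← g.toFunctor.map_comp, ht']
  refine ⟨ObjectProperty.homMk { fst := t, snd := φ, w := ?_ }, rfl, ht'⟩
  show g.map t ≫ z.obj.iso.hom = z'.obj.iso.hom ≫ π.map φ
  rw [hgt]
  simp [m]

theorem up_surjective (hY : FibCat.IsFibGrpd 𝒴.p) (hY' : FibCat.IsFibGrpd 𝒴'.p) (I : Ident F F') :
    Function.Surjective (up I η') := by
  intro s'
  choose y i hi α hα using fun (ξ : 𝒳.obj) (b : π.obj ξ ⟶ g.obj η') => exists_obj hY hY' ξ b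
  let z : ∀ ξ, (π.obj ξ ⟶ g.obj η') → (FibCat.fp g π).obj := fun ξ b =>
    ⟨{ fst := y ξ b, snd := ξ, iso := i ξ b }, hi ξ b⟩
  refine ⟨⟨fun ξ b => (I.σ (z ξ b)).symm (s'.1 (z ξ b) (α ξ b)), fun ξ' ξ φ b => ?_⟩, ?_⟩
  · obtain ⟨k, hk, hk'⟩ := exists_hom hY hY' (z' := z ξ' (π.map φ ≫ b)) (z := z ξ b) (α ξ' (π.map φ ≫ b)) (α ξ b) φ
      (by show π.map φ ≫ (i ξ b).inv ≫ g.map (α ξ b) = _; rw [hα]; exact (hα _ _).symm)
    refine (I.σ (z ξ' (π.map φ ≫ b))).injective ?_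
    rw [AddEquiv.apply_symm_apply]
    refine ((congrArg (fun j => I.σ (z ξ' (π.map φ ≫ b)) (F.mapTop j ((I.σ (z ξ b)).symm (s'.1 (z ξ b) (α ξ b)))))
      hk.symm).trans (I.nat k _).symm).trans ?_
    rw [AddEquiv.apply_symm_apply]
    exact (s'.2 k (α ξ b)).trans (congrArg (s'.1 _) hk')
  · refine Mod.RelSect.ext _ _ _ fun w a => ?_
    obtain ⟨k, hk, hk'⟩ := exists_hom hY hY' (z' := w) (z := z w.obj.snd (imArr w a)) a
      (α w.obj.snd (imArr w a)) (𝟙 _) (by
        rw [π.toFunctor.map_id, Category.id_comp]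
        exact hα _ _)
    show I.σ w ((I.σ (z _ (imArr w a))).symm (s'.1 (z _ (imArr w a)) (α _ (imArr w a)))) = s'.1 w a
    rw [← Mod.mapTop_id F _ ((I.σ (z _ (imArr w a))).symm _)]
    refine ((congrArg (fun j => I.σ w (F.mapTop j ((I.σ (z _ (imArr w a))).symm (s'.1 (z _ (imArr w a))
      (α _ (imArr w a)))))) hk.symm).trans (I.nat k _).symm).trans ?_
    rw [AddEquiv.apply_symm_apply]
    exact (s'.2 k _).trans (congrArg (s'.1 w) hk')

/-- Surjectivity on sections corresponds along a base change. -/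
theorem surjective_iff (hY : FibCat.IsFibGrpd 𝒴.p) (hY' : FibCat.IsFibGrpd 𝒴'.p) (IF : Ident F F')
    (IG : Ident G G') (u : F ⟶ G) (u' : F' ⟶ G')
    (hu : ∀ z m, (u'.app z).app ⊤ (IF.σ z m) = IG.σ z ((u.app z.obj.snd).app ⊤ m)) :
    Function.Surjective (Mod.relSectMap π u (g.obj η')) ↔
      Function.Surjective (Mod.relSectMap (FibCat.fpFst g π) u' η') := by
  have key : ∀ s, Mod.relSectMap (FibCat.fpFst g π) u' η' (up IF η' s) = up IG η' (Mod.relSectMap π u (g.obj η') s) :=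
    fun s => Mod.RelSect.ext _ _ _ fun z a => hu z _
  refine ⟨fun h t => ?_, fun h t => ?_⟩
  · obtain ⟨t₀, rfl⟩ := up_surjective hY hY' IG t
    obtain ⟨s, rfl⟩ := h t₀
    exact ⟨up IF η' s, key s⟩
  · obtain ⟨s', hs'⟩ := h (up IG η' t)
    obtain ⟨s, rfl⟩ := up_surjective hY hY' IF s'
    exact ⟨s, up_injective hY hY' IG ((key s).symm.trans hs')⟩

/-- The identification of the structure sheaves. -/
def identO : Ident (g := g) (π := π) (O 𝒳) (O (FibCat.fp g π)) where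
  σ z :=
    AddEquiv.ofBijective (eqToHom (sch_obj_eq (FibCat.fpSnd g π) z).symm).appTop.hom.toAddMonoidHom
      (ConcreteCategory.bijective_of_isIso (eqToHom (sch_obj_eq (FibCat.fpSnd g π) z).symm).appTop)
  nat {z' z} k m := by
    show ((bmap (FibCat.fp g π) k).appTop ((eqToHom _ : sch (FibCat.fp g π) z ⟶ _).appTop m)) =
      (eqToHom _ : sch (FibCat.fp g π) z' ⟶ _).appTop ((bmap 𝒳 k.hom.snd).appTop m)
    rw [← CommRingCat.comp_apply, ← CommRingCat.comp_apply, ← Scheme.Hom.comp_appTop, ← Scheme.Hom.comp_appTop]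
    refine congrArg (fun j => Scheme.Hom.appTop j m) ?_
    have h := bmap_map_comm (FibCat.fpSnd g π) k rfl
    rw [← cancel_epi (eqToHom (sch_obj_eq (FibCat.fpSnd g π) z')), ← Category.assoc, ← Category.assoc,
      eqToHom_trans, eqToHom_refl, Category.id_comp]
    refine ((congrArg (fun j => j ≫ eqToHom (sch_obj_eq (FibCat.fpSnd g π) z).symm) h).symm.trans ?_)
    rw [Category.assoc, eqToHom_trans, eqToHom_refl, Category.comp_id]
    rfl

theorem baseOver_imArr (z : (FibCat.fp g π).obj) (a : z.obj.fst ⟶ η') :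
    (baseOver π z.obj.snd (imArr z a)) =
      eqToHom ((FibCat.fpSnd g π).w_obj z) ≫ baseOver (FibCat.fpFst g π) z a ≫ eqToHom (g.w_obj η').symm := by
  haveI : 𝒴.p.IsHomLift (𝟙 (𝒴'.p.obj z.obj.fst)) z.obj.iso.hom := z.property
  have hi : 𝒴.p.map z.obj.iso.hom = eqToHom ((IsHomLift.domain_eq 𝒴.p (𝟙 _) z.obj.iso.hom).trans
      (IsHomLift.codomain_eq 𝒴.p (𝟙 (𝒴'.p.obj z.obj.fst)) z.obj.iso.hom).symm) := by
    rw [IsHomLift.fac' 𝒴.p (𝟙 (𝒴'.p.obj z.obj.fst)) z.obj.iso.hom]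
    simp
  have hinv : 𝒴.p.map z.obj.iso.inv = eqToHom ((IsHomLift.codomain_eq 𝒴.p (𝟙 (𝒴'.p.obj z.obj.fst))
      z.obj.iso.hom).trans (IsHomLift.domain_eq 𝒴.p (𝟙 _) z.obj.iso.hom).symm) := by
    rw [← cancel_epi (𝒴.p.map z.obj.iso.hom), ← Functor.map_comp, Iso.hom_inv_id, CategoryTheory.Functor.map_id, hi, eqToHom_trans,
      eqToHom_refl]
  have hmap : 𝒴.p.map (g.map a) = eqToHom (g.w_obj z.obj.fst) ≫ 𝒴'.p.map a ≫ eqToHom (g.w_obj η').symm :=
    IsHomLift.fac' 𝒴.p (𝒴'.p.map a) (g.map a)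
  rw [baseOver, baseOver, imArr, Functor.map_comp, hinv, hmap]
  simp

theorem appTop_congr {A B C D : Scheme.{u}} {p : A ⟶ B} {q : B ⟶ D} {p' : A ⟶ C} {q' : C ⟶ D}
    (e : p ≫ q = p' ≫ q') (r : Γ(D, ⊤)) : p.appTop (q.appTop r) = p'.appTop (q'.appTop r) := by
  rw [← CommRingCat.comp_apply, ← CommRingCat.comp_apply, ← Scheme.Hom.comp_appTop, ← Scheme.Hom.comp_appTop, e]

theorem baseOver_imArr_left (z : (FibCat.fp g π).obj) (a : z.obj.fst ⟶ η') :
    (eqToHom (sch_obj_eq (FibCat.fpSnd g π) z).symm : sch (FibCat.fp g π) z ⟶ sch 𝒳 z.obj.snd) ≫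
        (baseOver π z.obj.snd (imArr z a)).left =
      (baseOver (FibCat.fpFst g π) z a).left ≫ eqToHom (sch_obj_eq g η').symm := by
  rw [baseOver_imArr z a]
  simp [Over.eqToHom_left]

theorem up_unitSect (r : Fn (g.obj η')) (r' : Fn η')
    (hr : r' = (eqToHom (sch_obj_eq g η').symm).appTop.hom r) :
    up identO η' (unitSect π (g.obj η') r) = unitSect (FibCat.fpFst g π) η' r' := by
  subst hr
  refine Mod.RelSect.ext _ _ _ fun z a => ?_
  exact appTop_congr (baseOver_imArr_left z a) r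

/-- Bijectivity of the unit corresponds along a base change. -/
theorem unit_bijective_iff (hY : FibCat.IsFibGrpd 𝒴.p) (hY' : FibCat.IsFibGrpd 𝒴'.p) :
    Function.Bijective (unitSect π (g.obj η')) ↔ Function.Bijective (unitSect (FibCat.fpFst g π) η') := by
  let c := (eqToHom (sch_obj_eq g η').symm).appTop
  have hc : Function.Bijective c.hom := ConcreteCategory.bijective_of_isIso c
  have key : (unitSect (FibCat.fpFst g π) η' : _ → _) ∘ c.hom =
      up identO η' ∘ (unitSect π (g.obj η') : _ → _) := funext fun r => (up_unitSect r _ rfl).symm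
  have hup : Function.Bijective (up (g := g) (π := π) identO η') :=
    ⟨up_injective hY hY' identO, up_surjective hY hY' identO⟩
  rw [← hc.of_comp_iff (unitSect (FibCat.fpFst g π) η' : _ → _), key, hup.of_comp_iff']

end Groth.L23.CohAff
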