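import Groth.Agent.L23.CohAff.Descent
import Groth.Agent.L23.CohAff.Transfer
import Groth.Agent.L23.CohAff.CoverFlat
import Groth.Agent.L23.RelGen.AtlasExists
import Groth.Agent.L09.Gerbe.Space
import Groth.Prelude.Def_StMod2

/-!
# Flat descent of cohomological affineness
-/

universe u

open CategoryTheory CategoryTheory.Limits AlgebraicGeometry Opposite TopologicalSpace AlgSp

set_option backward.isDefEq.respectTransparency false
set_option backward.isDefEq.respectTransparency.types false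
set_option linter.style.haveILetI false
set_option linter.unusedSectionVars false
set_option linter.unusedVariables false
set_option maxHeartbeats 1000000

noncomputable section

namespace Groth.L23.CohAff

open StMod Groth.L23.RelGen
open Groth.L19.QCohFpqc (IsCov)

variable {S : Scheme.{u}} {M M' : AlgSp.Space S}

/-- The morphism of `ofSp` given by a morphism of etale objects over a map of spaces. -/
theorem exists_arrow (g : M'.obj ⟶ M.obj) (V : EtOver M'.obj) (E : EtOver M.obj) (h : V.obj.left ⟶ E.obj.left)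
    (e : V.obj.hom ≫ g = (yon S).map h ≫ E.obj.hom) :
    ∃ β : (AlgSt.ofSpMap g).obj (etaOf V) ⟶ etaOf E, bmap (AlgSt.ofSp M.obj) β = h.left := by
  refine ⟨⟨h, ?_⟩, rfl⟩
  refine (GrothendieckTopology.uliftYonedaEquiv_naturality (AlgSp.J S) E.obj.hom h).trans ?_
  refine (congrArg (AlgSp.J S).uliftYonedaEquiv e.symm).trans ?_
  exact GrothendieckTopology.uliftYonedaEquiv_comp (AlgSp.J S) V.obj.hom g

theorem exists_data (g : M'.obj ⟶ M.obj) (hgf : LocP @Flat g) (hgs : IsSurjectiveMor g) (E : EtOver M.obj) :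
    ∃ (κ : Type u) (V : κ → EtOver M'.obj) (β : ∀ i, (AlgSt.ofSpMap g).obj (etaOf (V i)) ⟶ etaOf E),
      (∀ i, IsAffine (V i).obj.left.left) ∧ IsCov (fun i => bmap (AlgSt.ofSp M.obj) (β i)) := by
  obtain ⟨κ, V, h, hV, he, hc⟩ := exists_flat_cover g hgf hgs E
  choose β hβ using fun i => exists_arrow g (V i) E (h i) (he i)
  refine ⟨κ, V, β, hV, ⟨fun i => ?_, fun x => ?_⟩⟩
  · rw [hβ i]; exact hc.flat i
  · obtain ⟨l, w, hw⟩ := hc.surj x
    exact ⟨l, w, by rw [hβ l]; exact hw⟩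

variable {𝒳 : AlgSt.Cat S}

/-- Surjectivity of morphisms is kept by inverse images. -/
theorem isSurj_comap {ℬ : AlgSt.Cat S} (Φ : ℬ ⥤ᵇ 𝒳) {F G : Mod 𝒳} (u : F ⟶ G) (h : Mod.IsSurj u) :
    Mod.IsSurj (Mod.comapMap Φ u) := by
  intro b hb m
  haveI : IsAffine (sch 𝒳 (Φ.obj b)) := IsAffine.of_isIso (eqToHom (sch_obj_eq Φ b))
  obtain ⟨n, hn⟩ := h (Φ.obj b) inferInstance ((secC Φ G b).symm m)
  exact ⟨secC Φ F b n, (secC_app Φ u b n).trans ((congrArg (secC Φ G b) hn).trans (AddEquiv.apply_symm_apply _ _))⟩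

section Generic

variable {𝒴 𝒴' : BasedCategory.{u, u + 1} (Over S)} {G₀ : 𝒴' ⥤ᵇ 𝒴} {P : 𝒳 ⥤ᵇ 𝒴}

theorem app_ident {F G : Mod 𝒳} (u : F ⟶ G) (z : (FibCat.fp G₀ P).obj) (m : Sec F z.obj.snd) :
    ((Mod.comapMap (FibCat.fpSnd G₀ P) u).app z).app ⊤ ((identComap (g := G₀) (π := P) F).σ z m) =
      (identComap (g := G₀) (π := P) G).σ z ((u.app z.obj.snd).app ⊤ m) :=
  secC_app (FibCat.fpSnd G₀ P) u z m

theorem surjective_of_fp (hX : FibCat.IsFibGrpd 𝒳.p) (hY : FibCat.IsFibGrpd 𝒴.p) (hY' : FibCat.IsFibGrpd 𝒴'.p)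
    {F G : Mod 𝒳} (hF : F.IsCartesian) (hFq : F.IsLocQCoh) (hG : G.IsCartesian) (hGq : G.IsLocQCoh) (u : F ⟶ G)
    {η : 𝒴.obj} (hη : IsAffine (sch 𝒴 η)) (A : Atlas (fibCat P η)) {κ : Type u} (η' : κ → 𝒴'.obj)
    (β : ∀ i, G₀.obj (η' i) ⟶ η) (haff : ∀ i, IsAffine (sch 𝒴 (G₀.obj (η' i))))
    (hcov : IsCov fun i => bmap 𝒴 (β i))
    (h : ∀ i, Function.Surjective
      (Mod.relSectMap (FibCat.fpFst G₀ P) (Mod.comapMap (FibCat.fpSnd G₀ P) u) (η' i))) :
    Function.Surjective (Mod.relSectMap P u η) :=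
  surjective_of_cover hX hY hF hFq hG hGq u β haff hcov A fun i =>
    have e := surjective_iff (g := G₀) (π := P) (η' := η' i) hY hY' (identComap (g := G₀) (π := P) F)
      (identComap (g := G₀) (π := P) G) u (Mod.comapMap (FibCat.fpSnd G₀ P) u) (app_ident u)
    e.2 (h i)

theorem comapQ_map_hom {ℬ : AlgSt.Cat S} (Φ : ℬ ⥤ᵇ 𝒳) {F G : QCoh 𝒳} (u : F ⟶ G) :
    ((comapQ Φ).map u).hom = Mod.comapMap Φ u.hom := rfl

end Generic

theorem surjective_comap {N : AlgSp.Sp S} {ℬ : AlgSt.Cat S} (Φ : ℬ ⥤ᵇ 𝒳) (P : ℬ ⥤ᵇ AlgSt.ofSp N)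
    (h : StMod.IsCohAffine P) {F G : QCoh 𝒳} (u : F ⟶ G) (hu : Mod.IsSurj u.hom) (E : EtOver N)
    (hE : IsAffine E.obj.left.left) : Function.Surjective (Mod.relSectMap P (Mod.comapMap Φ u.hom) (etaOf E)) := by
  have hv : Mod.IsSurj ((comapQ Φ).map u).hom := (comapQ_map_hom Φ u).symm ▸ isSurj_comap Φ u.hom hu
  have h₁ := h ((comapQ Φ).map u) hv E hE
  rwa [comapQ_map_hom Φ u] at h₁

/-- Cohomological affineness descends along flat surjective morphisms. -/
theorem isCohAffine_of_fpFst (h𝒳 : AlgSt.IsAlgStack Scheme.fppfPrecoverage 𝒳) (g : M'.obj ⟶ M.obj)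
    (hgf : LocP @Flat g) (hgs : IsSurjectiveMor g) (π : 𝒳 ⥤ᵇ AlgSt.ofSp M.obj)
    (hqc : AlgSt.IsQuasiCompactMor Scheme.fppfPrecoverage π) (hqs : AlgSt.IsQuasiSeparatedMor π)
    (h' : StMod.IsCohAffine (FibCat.fpFst (AlgSt.ofSpMap g) π)) : StMod.IsCohAffine π := by
  intro F G u hu E hE
  haveI : IsAffine (sch (AlgSt.ofSp M.obj) (etaOf E)) := hE
  obtain ⟨κ, V, β, hV, hc⟩ := exists_data g hgf hgs E
  obtain ⟨A⟩ := exists_atlas h𝒳 (Groth.L09.Gerbe.isAlgStack_ofSp M) π hqc hqs (etaOf E)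
  exact surjective_of_fp h𝒳.isStack.1 (Groth.L24.St.ofSp_isFibGrpd _) (Groth.L24.St.ofSp_isFibGrpd _)
    F.property.1 F.property.2 G.property.1 G.property.2 u.hom hE A (fun i => etaOf (V i)) β hV hc
    (fun i => surjective_comap (FibCat.fpSnd (AlgSt.ofSpMap g) π) (FibCat.fpFst (AlgSt.ofSpMap g) π) h' u hu
      (V i) (hV i))

/-- Bijectivity of the unit descends along flat surjective morphisms, at affine test objects. -/
theorem unit_bijective_affine (h𝒳 : AlgSt.IsAlgStack Scheme.fppfPrecoverage 𝒳) (g : M'.obj ⟶ M.obj)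
    (hgf : LocP @Flat g) (hgs : IsSurjectiveMor g) (π : 𝒳 ⥤ᵇ AlgSt.ofSp M.obj)
    (hqc : AlgSt.IsQuasiCompactMor Scheme.fppfPrecoverage π) (hqs : AlgSt.IsQuasiSeparatedMor π)
    (h' : StMod.UnitIsIso (FibCat.fpFst (AlgSt.ofSpMap g) π)) (E : EtOver M.obj) (hE : IsAffine E.obj.left.left) :
    Function.Bijective (unitSect π (etaOf E)) := by
  haveI : IsAffine (sch (AlgSt.ofSp M.obj) (etaOf E)) := hE
  obtain ⟨κ, V, β, hV, hc⟩ := exists_data g hgf hgs E
  obtain ⟨A⟩ := exists_atlas h𝒳 (Groth.L09.Gerbe.isAlgStack_ofSp M) π hqc hqs (etaOf E)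
  refine unit_bijective_of_cover h𝒳.isStack.1 (Groth.L24.St.ofSp_isFibGrpd _) β (fun i => hV i) hc A fun i => ?_
  exact (unit_bijective_iff (Groth.L24.St.ofSp_isFibGrpd _) (Groth.L24.St.ofSp_isFibGrpd _)).2 (h' (V i))

/-- A flat morphism of schemes is flat as a morphism of spaces. -/
theorem locP_flat_yon {A B : Over S} (g : A ⟶ B) (hg : Flat g.left) : LocP @Flat ((yon S).map g) := by
  intro U V a b h ha hb e
  obtain ⟨a₀, rfl⟩ := (yon S).map_surjective a
  obtain ⟨b₀, rfl⟩ := (yon S).map_surjective b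
  rw [← Functor.map_comp, ← Functor.map_comp] at e
  haveI : Etale a₀.left := (repWith_yon_map_iff _ _).1 ha
  haveI : Etale b₀.left := (repWith_yon_map_iff _ _).1 hb
  have e' : a₀.left ≫ g.left = h.left ≫ b₀.left := congrArg (fun k => k.left) ((yon S).map_injective e)
  haveI : Flat (h.left ≫ b₀.left) := e' ▸ inferInstance
  let s : U.left ⟶ pullback (h.left ≫ b₀.left) b₀.left := pullback.lift (𝟙 _) h.left (Category.id_comp _)
  haveI h₁ : Etale (s ≫ pullback.fst (h.left ≫ b₀.left) b₀.left) := by rw [pullback.lift_fst]; infer_instance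
  haveI : Etale s :=
    MorphismProperty.of_postcomp @Etale (W' := @Etale) s (pullback.fst (h.left ≫ b₀.left) b₀.left) inferInstance h₁
  rw [show h.left = s ≫ pullback.snd (h.left ≫ b₀.left) b₀.left from (pullback.lift_snd _ _ _).symm]
  infer_instance

end Groth.L23.CohAff
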