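import Groth.Agent.L23.RelGen.Glue

/-!
# Sections of a quasi-coherent module from their values at affine objects
-/

universe w v u

open CategoryTheory CategoryTheory.Limits AlgebraicGeometry Opposite TopologicalSpace

set_option backward.isDefEq.respectTransparency false
set_option backward.isDefEq.respectTransparency.types false
set_option linter.style.haveILetI false
set_option linter.unusedSectionVars false
set_option linter.unusedVariables false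

noncomputable section

namespace Groth.L23.CohAff

open StMod Groth.L23.RelGen
open Groth.L18.Frame (rs ro rs_rs rs_self)

variable {S : Scheme.{u}} {𝒳 : BasedCategory.{v, w} (Over S)} {F : Mod 𝒳}

/-- A section is determined by its values at affine objects. -/
theorem sec_ext (h : FibCat.IsFibGrpd 𝒳.p) (hF : F.IsCartesian) {x : 𝒳.obj} {a b : Sec F x}
    (hab : ∀ (y : 𝒳.obj) (_ : IsAffine (sch 𝒳 y)) (r : y ⟶ x), F.mapTop r a = F.mapTop r b) : a = b := by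
  refine Groth.L19.QCohFpqc.eq_of_affine (F.obj x) fun U hU hle => ?_
  obtain ⟨y, r, hi, hr, ha⟩ := exists_restrict h x U
  haveI := hi
  obtain ⟨e, b'⟩ := resTo_bijective hF r hr
  refine b'.1 ?_
  rw [resTo_rs, resTo_rs, resTo_top, resTo_top, hab y (ha hU) r]

/-- Compatible values at affine objects over an object come from a section. -/
theorem exists_sec_of_affine (h : FibCat.IsFibGrpd 𝒳.p) (hF : F.IsCartesian) {x : 𝒳.obj}
    (v : ∀ (y : 𝒳.obj), IsAffine (sch 𝒳 y) → (y ⟶ x) → Sec F y)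
    (hv : ∀ (y' y : 𝒳.obj) (hy' : IsAffine (sch 𝒳 y')) (hy : IsAffine (sch 𝒳 y)) (k : y' ⟶ y) (r : y ⟶ x),
      F.mapTop k (v y hy r) = v y' hy' (k ≫ r)) :
    ∃ n : Sec F x, ∀ (y : 𝒳.obj) (hy : IsAffine (sch 𝒳 y)) (r : y ⟶ x), F.mapTop r n = v y hy r := by
  let ι := {U : (sch 𝒳 x).Opens // IsAffineOpen U}
  have hval : ∀ i : ι, ∃ n : Γ(F.obj x, i.1), ∀ (y : 𝒳.obj) (hy : IsAffine (sch 𝒳 y)) (r : y ⟶ x)
      (e : (⊤ : (sch 𝒳 y).Opens) ≤ bmap 𝒳 r ⁻¹ᵁ i.1), resTo F r e n = v y hy r := by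
    intro i
    obtain ⟨z, j, hi, hj, ha⟩ := exists_restrict h x i.1
    haveI := hi
    obtain ⟨ej, bj⟩ := resTo_bijective hF j hj
    obtain ⟨n, hn⟩ := bj.2 (v z (ha i.2) j)
    refine ⟨n, fun y hy r e => ?_⟩
    obtain ⟨t, ht⟩ := exists_factor_open h r j (by
      rw [hj]; rintro _ ⟨p, rfl⟩; exact e (show p ∈ (⊤ : (sch 𝒳 y).Opens) from trivial))
    subst ht
    rw [resTo_comp t j ej e, hn]
    exact hv y z hy (ha i.2) t j
  choose n hn using hval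
  have huniq : ∀ (U : (sch 𝒳 x).Opens) (a b : Γ(F.obj x, U)),
      (∀ (y : 𝒳.obj) (_ : IsAffine (sch 𝒳 y)) (r : y ⟶ x) (e : (⊤ : (sch 𝒳 y).Opens) ≤ bmap 𝒳 r ⁻¹ᵁ U),
        resTo F r e a = resTo F r e b) → a = b := by
    intro U a b hab
    refine Groth.L19.QCohFpqc.eq_of_affine (F.obj x) fun W hW hle => ?_
    obtain ⟨y, r, hi, hr, ha⟩ := exists_restrict h x W
    haveI := hi
    obtain ⟨e, b'⟩ := resTo_bijective hF r hr
    refine b'.1 ?_
    rw [resTo_rs, resTo_rs]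
    exact hab y (ha hW) r _
  have hag : ∀ i k : ι, rs (F.obj x) (inf_le_left : i.1 ⊓ k.1 ≤ i.1) (n i) =
      rs (F.obj x) (inf_le_right : i.1 ⊓ k.1 ≤ k.1) (n k) := fun i k =>
    huniq _ _ _ fun y hy r e => by
      rw [resTo_rs, resTo_rs, hn i y hy r, hn k y hy r]
  have hcov : (⊤ : (sch 𝒳 x).Opens) ≤ ⨆ i : ι, i.1 := by
    intro p _
    obtain ⟨_, ⟨U, hU, rfl⟩, hpU, -⟩ :=
      (sch 𝒳 x).isBasis_affineOpens.exists_subset_of_mem_open (Set.mem_univ p) isOpen_univ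
    exact Opens.mem_iSup.2 ⟨⟨U, hU⟩, hpU⟩
  obtain ⟨s, hs, -⟩ := TopCat.Sheaf.existsUnique_gluing'
    (⟨(F.obj x).presheaf, (F.obj x).isSheaf⟩ : TopCat.Sheaf AddCommGrpCat (sch 𝒳 x)) (fun i : ι => i.1) ⊤
    (fun _ => homOfLE le_top) hcov n hag
  refine ⟨s, fun y hy r => Groth.L19.QCohFpqc.eq_of_locally (F.obj y) fun p => ?_⟩
  obtain ⟨_, ⟨U, hU, rfl⟩, hpU, -⟩ :=
    (sch 𝒳 x).isBasis_affineOpens.exists_subset_of_mem_open (Set.mem_univ (bmap 𝒳 r p.1)) isOpen_univ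
  obtain ⟨_, ⟨W, hW, rfl⟩, hpW, hWU⟩ :=
    (sch 𝒳 y).isBasis_affineOpens.exists_subset_of_mem_open (show p.1 ∈ bmap 𝒳 r ⁻¹ᵁ U from hpU)
      (bmap 𝒳 r ⁻¹ᵁ U).2
  obtain ⟨z, j, hi, hj, ha⟩ := exists_restrict h y W
  haveI := hi
  obtain ⟨ej, bj⟩ := resTo_bijective hF j hj
  refine ⟨W, hpW, le_top, bj.1 ?_⟩
  rw [resTo_rs, resTo_rs, resTo_top, resTo_top, hv z y (ha hW) hy j r, ← Mod.mapTop_comp]
  have e : (⊤ : (sch 𝒳 z).Opens) ≤ bmap 𝒳 (j ≫ r) ⁻¹ᵁ U := fun q hq => by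
    rw [bmap_comp]
    exact hWU (ej hq)
  rw [← hn ⟨U, hU⟩ z (ha hW) (j ≫ r) e, ← resTo_top (j ≫ r) le_top s,
    ← resTo_rs (j ≫ r) (le_top : U ≤ ⊤) e s]
  exact congrArg _ (hs ⟨U, hU⟩)

end Groth.L23.CohAff
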