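import Groth.Agent.L23.CohAff.FlatBC

/-!
# Descent of surjectivity and of bijectivity of the unit along flat covers of an affine object
-/

universe w' v' w v u

open CategoryTheory CategoryTheory.Limits AlgebraicGeometry Opposite TopologicalSpace
open scoped TensorProduct

set_option backward.isDefEq.respectTransparency false
set_option backward.isDefEq.respectTransparency.types false
set_option linter.style.haveILetI false
set_option linter.unusedSectionVars false
set_option linter.unusedVariables false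
set_option maxHeartbeats 1000000

noncomputable section

namespace Groth.L23.CohAff

open StMod Groth.L23.RelGen
open Groth.L19.QCohFpqc (IsCov)

variable {S : Scheme.{u}} {𝒳 : BasedCategory.{v, w} (Over S)} {𝒴 : BasedCategory.{v', w'} (Over S)}
  {π : 𝒳 ⥤ᵇ 𝒴} {η : 𝒴.obj} {F G : Mod 𝒳}

/-- An element of a module killed along a flat cover of an affine object vanishes. -/
theorem eq_zero_of_cover {κ : Type*} {η' : κ → 𝒴.obj} (β : ∀ i, η' i ⟶ η) [IsAffine (sch 𝒴 η)]
    (haff : ∀ i, IsAffine (sch 𝒴 (η' i))) (hcov : IsCov fun i => bmap 𝒴 (β i)) {Q : Type*} [AddCommGroup Q]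
    [Module (Fn η) Q] (x : Q)
    (hx : ∀ i, letI := (fnMap (β i)).toAlgebra; (1 : Fn (η' i)) ⊗ₜ[Fn η] x = 0) : x = 0 := by
  haveI := haff
  letI := fun i => (fnMap (β i)).toAlgebra
  haveI := fun i => IsCov.flat_appTop (fun i => bmap 𝒴 (β i)) hcov i
  exact Groth.L19.QCohFpqc.eq_zero_of_forall (fun i => Fn (η' i))
    (IsCov.prime_lift (fun i => bmap 𝒴 (β i)) hcov) x hx

/-- Surjectivity on sections descends along flat covers. -/
theorem surjective_of_cover (hX : FibCat.IsFibGrpd 𝒳.p) (hY : FibCat.IsFibGrpd 𝒴.p) (hF : F.IsCartesian)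
    (hFq : F.IsLocQCoh) (hG : G.IsCartesian) (hGq : G.IsLocQCoh) (u : F ⟶ G) {κ : Type*} {η' : κ → 𝒴.obj}
    (β : ∀ i, η' i ⟶ η) [IsAffine (sch 𝒴 η)] (haff : ∀ i, IsAffine (sch 𝒴 (η' i)))
    (hcov : IsCov fun i => bmap 𝒴 (β i)) (A : Atlas (fibCat π η))
    (h : ∀ i, Function.Surjective (Mod.relSectMap π u (η' i))) : Function.Surjective (Mod.relSectMap π u η) := by
  intro t
  let R := LinearMap.range (Mod.relSectMap π u η)
  suffices ht : R.mkQ t = 0 by
    exact (Submodule.Quotient.mk_eq_zero R).1 ht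
  refine eq_zero_of_cover β haff hcov _ fun i => ?_
  haveI := haff i
  haveI : Flat (bmap 𝒴 (β i)) := hcov.flat i
  letI := (fnMap (β i)).toAlgebra
  obtain ⟨EF, hEF⟩ := exists_flatBC hX hY hF hFq (β i) A
  obtain ⟨EG, hEG⟩ := exists_flatBC hX hY hG hGq (β i) A
  have key : ∀ w, EG ((Mod.relSectMap π u η).lTensor (Fn (η' i)) w) = Mod.relSectMap π u (η' i) (EF w) := by
    intro w
    induction w using TensorProduct.induction_on with
    | zero => simp only [map_zero]
    | tmul r s => rw [LinearMap.lTensor_tmul, hEG, hEF, map_smul, relRes_map]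
    | add a b ha hb => simp only [map_add, ha, hb]
  obtain ⟨s', hs'⟩ := h i (relRes (β i) t)
  have e : (Mod.relSectMap π u η).lTensor (Fn (η' i)) (EF.symm s') = (1 : Fn (η' i)) ⊗ₜ t := by
    refine EG.injective ?_
    rw [key, AddEquiv.apply_symm_apply, hs', hEG, one_smul]
  rw [← LinearMap.lTensor_tmul, ← e, ← LinearMap.comp_apply, ← LinearMap.lTensor_comp,
    LinearMap.range_mkQ_comp, LinearMap.lTensor_zero, LinearMap.zero_apply]

/-- Surjectivity on sections ascends along flat morphisms. -/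
theorem surjective_of_flat (hX : FibCat.IsFibGrpd 𝒳.p) (hY : FibCat.IsFibGrpd 𝒴.p) (hG : G.IsCartesian)
    (hGq : G.IsLocQCoh) (u : F ⟶ G) {η' : 𝒴.obj} (β : η' ⟶ η) [IsAffine (sch 𝒴 η)] [IsAffine (sch 𝒴 η')]
    [Flat (bmap 𝒴 β)] (A : Atlas (fibCat π η)) (h : Function.Surjective (Mod.relSectMap π u η)) :
    Function.Surjective (Mod.relSectMap π u η') := by
  intro t
  letI := (fnMap β).toAlgebra
  obtain ⟨EG, hEG⟩ := exists_flatBC hX hY hG hGq β A
  obtain ⟨w, rfl⟩ := EG.surjective t
  induction w using TensorProduct.induction_on with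
  | zero => exact ⟨0, by rw [map_zero, map_zero]⟩
  | tmul r s =>
    obtain ⟨s₀, rfl⟩ := h s
    exact ⟨r • relRes β s₀, by rw [map_smul, hEG, relRes_map]⟩
  | add a b ha hb =>
    obtain ⟨a', ha'⟩ := ha
    obtain ⟨b', hb'⟩ := hb
    exact ⟨a' + b', by rw [map_add, map_add, ha', hb']⟩

theorem relRes_unitSect {η' : 𝒴.obj} (β : η' ⟶ η) (r : Fn η) :
    relRes β (unitSect π η r) = unitSect π η' (fnMap β r) :=
  Mod.RelSect.ext _ _ _ fun ξ α => by
    show (baseOver π ξ (α ≫ β)).left.appTop r = (baseOver π ξ α).left.appTop ((bmap 𝒴 β).appTop r)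
    rw [baseOver_comp, Over.comp_left, Scheme.Hom.comp_appTop]
    rfl

/-- Bijectivity of the unit descends along flat covers. -/
theorem unit_bijective_of_cover (hX : FibCat.IsFibGrpd 𝒳.p) (hY : FibCat.IsFibGrpd 𝒴.p) {κ : Type*}
    {η' : κ → 𝒴.obj} (β : ∀ i, η' i ⟶ η) [IsAffine (sch 𝒴 η)] (haff : ∀ i, IsAffine (sch 𝒴 (η' i)))
    (hcov : IsCov fun i => bmap 𝒴 (β i)) (A : Atlas (fibCat π η))
    (h : ∀ i, Function.Bijective (unitSect π (η' i))) : Function.Bijective (unitSect π η) := by
  refine ⟨(injective_iff_map_eq_zero _).2 fun r hr => ?_, fun t => ?_⟩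
  · refine eq_zero_of_cover β haff hcov r fun i => ?_
    letI := (fnMap (β i)).toAlgebra
    have h0 : fnMap (β i) r = 0 := (h i).1 (by rw [← relRes_unitSect, hr, map_zero, map_zero])
    refine (TensorProduct.rid (Fn η) (Fn (η' i))).injective ?_
    rw [TensorProduct.rid_tmul, map_zero, Algebra.smul_def, mul_one]
    exact h0
  · let R := LinearMap.range (unitSect π η)
    suffices ht : R.mkQ t = 0 by
      exact (Submodule.Quotient.mk_eq_zero R).1 ht
    refine eq_zero_of_cover β haff hcov _ fun i => ?_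
    haveI := haff i
    haveI : Flat (bmap 𝒴 (β i)) := hcov.flat i
    letI := (fnMap (β i)).toAlgebra
    obtain ⟨EG, hEG⟩ := exists_flatBC hX hY isCartesian_O isLocQCoh_O (β i) A
    obtain ⟨c, hc⟩ := (h i).2 (relRes (β i) t)
    have e : (unitSect π η).lTensor (Fn (η' i)) (c ⊗ₜ (1 : Fn η)) = (1 : Fn (η' i)) ⊗ₜ t := by
      refine EG.injective ?_
      rw [LinearMap.lTensor_tmul, hEG, hEG, one_smul, relRes_unitSect, map_one, ← map_smul]
      exact (congrArg (unitSect π (η' i)) (mul_one c)).trans hc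
    rw [← LinearMap.lTensor_tmul, ← e, ← LinearMap.comp_apply, ← LinearMap.lTensor_comp,
      LinearMap.range_mkQ_comp, LinearMap.lTensor_zero, LinearMap.zero_apply]

end Groth.L23.CohAff
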