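import Groth.Agent.L23.CohAff.Descent
import Groth.Agent.L24.St.Sp
import Groth.Prelude.Def_StMod2

/-!
# Bijectivity of the unit from affine test objects
-/

universe w v u

open CategoryTheory CategoryTheory.Limits AlgebraicGeometry Opposite TopologicalSpace AlgSp

set_option backward.isDefEq.respectTransparency false
set_option backward.isDefEq.respectTransparency.types false
set_option linter.style.haveILetI false
set_option linter.unusedSectionVars false
set_option linter.unusedVariables false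
set_option maxHeartbeats 1000000

noncomputable section

namespace Groth.L23.CohAff

open StMod Groth.L23.RelGen
open Groth.L18.Frame (rs ro rs_rs rs_self)

section Open

variable {S : Scheme.{u}} {𝒳 : BasedCategory.{v, w} (Over S)} {F : Mod 𝒳}

/-- A section is determined by its restrictions to affine open subobjects. -/
theorem sec_ext_open (h : FibCat.IsFibGrpd 𝒳.p) (hF : F.IsCartesian) {x : 𝒳.obj} {a b : Sec F x}
    (hab : ∀ (y : 𝒳.obj) (_ : IsAffine (sch 𝒳 y)) (r : y ⟶ x), IsOpenImmersion (bmap 𝒳 r) →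
      F.mapTop r a = F.mapTop r b) : a = b := by
  refine Groth.L19.QCohFpqc.eq_of_affine (F.obj x) fun U hU hle => ?_
  obtain ⟨y, r, hi, hr, ha⟩ := exists_restrict h x U
  haveI := hi
  obtain ⟨e, b'⟩ := resTo_bijective hF r hr
  refine b'.1 ?_
  rw [resTo_rs, resTo_rs, resTo_top, resTo_top, hab y (ha hU) r hi]

/-- Compatible values at the affine open subobjects come from a section. -/
theorem exists_sec_of_open (h : FibCat.IsFibGrpd 𝒳.p) (hF : F.IsCartesian) {x : 𝒳.obj}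
    (v : ∀ (y : 𝒳.obj), IsAffine (sch 𝒳 y) → ∀ r : y ⟶ x, IsOpenImmersion (bmap 𝒳 r) → Sec F y)
    (hv : ∀ (y' y : 𝒳.obj) hy' hy (k : y' ⟶ y) (r : y ⟶ x) (r' : y' ⟶ x) hr hr', k ≫ r = r' →
      F.mapTop k (v y hy r hr) = v y' hy' r' hr') :
    ∃ n : Sec F x, ∀ y hy (r : y ⟶ x) hr, F.mapTop r n = v y hy r hr := by
  let ι := {U : (sch 𝒳 x).Opens // IsAffineOpen U}
  have hval : ∀ i : ι, ∃ n : Γ(F.obj x, i.1), ∀ (y : 𝒳.obj) (hy : IsAffine (sch 𝒳 y)) (r : y ⟶ x)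
      (hr : IsOpenImmersion (bmap 𝒳 r))
      (e : (⊤ : (sch 𝒳 y).Opens) ≤ bmap 𝒳 r ⁻¹ᵁ i.1), resTo F r e n = v y hy r hr := by
    intro i
    obtain ⟨z, j, hi, hj, ha⟩ := exists_restrict h x i.1
    haveI := hi
    obtain ⟨ej, bj⟩ := resTo_bijective hF j hj
    obtain ⟨n, hn⟩ := bj.2 (v z (ha i.2) j hi)
    refine ⟨n, fun y hy r hr e => ?_⟩
    obtain ⟨t, ht⟩ := exists_factor_open h r j (by
      rw [hj]; rintro _ ⟨p, rfl⟩; exact e (show p ∈ (⊤ : (sch 𝒳 y).Opens) from trivial))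
    subst ht
    rw [resTo_comp t j ej e, hn]
    exact hv y z hy (ha i.2) t j (t ≫ j) hi hr rfl
  choose n hn using hval
  have hag : ∀ i k : ι, rs (F.obj x) (inf_le_left : i.1 ⊓ k.1 ≤ i.1) (n i) =
      rs (F.obj x) (inf_le_right : i.1 ⊓ k.1 ≤ k.1) (n k) := fun i k => by
    refine Groth.L19.QCohFpqc.eq_of_affine (F.obj x) fun W hW hle => ?_
    obtain ⟨y, r, hi, hr, ha⟩ := exists_restrict h x W
    haveI := hi
    obtain ⟨e, b'⟩ := resTo_bijective hF r hr
    refine b'.1 ?_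
    rw [resTo_rs, resTo_rs, resTo_rs, resTo_rs, hn i y (ha hW) r hi, hn k y (ha hW) r hi]
  have hcov : (⊤ : (sch 𝒳 x).Opens) ≤ ⨆ i : ι, i.1 := by
    intro p _
    obtain ⟨_, ⟨U, hU, rfl⟩, hpU, -⟩ :=
      (sch 𝒳 x).isBasis_affineOpens.exists_subset_of_mem_open (Set.mem_univ p) isOpen_univ
    exact Opens.mem_iSup.2 ⟨⟨U, hU⟩, hpU⟩
  obtain ⟨s, hs, -⟩ := TopCat.Sheaf.existsUnique_gluing'
    (⟨(F.obj x).presheaf, (F.obj x).isSheaf⟩ : TopCat.Sheaf AddCommGrpCat (sch 𝒳 x)) (fun i : ι => i.1) ⊤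
    (fun _ => homOfLE le_top) hcov n hag
  refine ⟨s, fun y hy r hr => ?_⟩
  haveI := hy
  haveI := hr
  have hU : IsAffineOpen (bmap 𝒳 r).opensRange := isAffineOpen_opensRange _
  have e : (⊤ : (sch 𝒳 y).Opens) ≤ bmap 𝒳 r ⁻¹ᵁ (bmap 𝒳 r).opensRange := fun p _ => ⟨p, rfl⟩
  rw [← hn ⟨_, hU⟩ y hy r hr e, ← resTo_top r le_top s,
    ← resTo_rs r (le_top : (bmap 𝒳 r).opensRange ≤ ⊤) e s]
  exact congrArg _ (hs ⟨_, hU⟩)

end Open

variable {S : Scheme.{u}} {𝒳 : AlgSt.Cat S} {M : AlgSp.Sp S}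

theorem exists_etaOf {E : EtOver M} {y : (AlgSt.ofSp M).obj} (r : y ⟶ etaOf E)
    (hr : IsOpenImmersion (bmap (AlgSt.ofSp M) r)) : ∃ E' : EtOver M, etaOf E' = y := by
  obtain ⟨T, x⟩ := y
  obtain ⟨k, hk⟩ := r
  let E' : EtOver M := EtOver.mk ((yon S).map k ≫ E.obj.hom)
    (MorphismProperty.comp_mem _ _ _ ((repWith_yon_map_iff _ _).2 (show Etale k.left from
      haveI : IsOpenImmersion k.left := hr
      inferInstance)) E.property)
  refine ⟨E', ?_⟩
  have hx : (AlgSp.J S).uliftYonedaEquiv E'.obj.hom = x :=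
    (GrothendieckTopology.uliftYonedaEquiv_naturality (AlgSp.J S) E.obj.hom k).symm.trans hk
  show (⟨T, (AlgSp.J S).uliftYonedaEquiv E'.obj.hom⟩ : (AlgSt.ofSp M).obj) = ⟨T, x⟩
  exact congrArg (fun z => (⟨T, z⟩ : (AlgSt.ofSp M).obj)) hx

/-- The unit is bijective everywhere if it is at affine test objects. -/
theorem unitIsIso_of_affine (h𝒳 : FibCat.IsFibGrpd 𝒳.p) (π : 𝒳 ⥤ᵇ AlgSt.ofSp M)
    (h : ∀ E : EtOver M, IsAffine E.obj.left.left → Function.Bijective (unitSect π (etaOf E))) :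
    StMod.UnitIsIso π := by
  intro E
  have hY : FibCat.IsFibGrpd (AlgSt.ofSp M).p := Groth.L24.St.ofSp_isFibGrpd _
  have hb : ∀ (y : (AlgSt.ofSp M).obj), IsAffine (sch (AlgSt.ofSp M) y) → ∀ r : y ⟶ etaOf E,
      IsOpenImmersion (bmap (AlgSt.ofSp M) r) → Function.Bijective (unitSect π y) := fun y hy r hr => by
    obtain ⟨E', rfl⟩ := exists_etaOf r hr
    exact h E' hy
  refine ⟨(injective_iff_map_eq_zero _).2 fun c hc => ?_, fun s => ?_⟩
  · refine sec_ext_open (F := O (AlgSt.ofSp M)) hY isCartesian_O fun y hy r hr => ?_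
    refine (hb y hy r hr).1 ?_
    show unitSect π y (fnMap r c) = unitSect π y (fnMap r 0)
    rw [← relRes_unitSect, hc, map_zero, map_zero, map_zero]
  · choose v hv using fun y hy r hr => (hb y hy r hr).2 (relRes r s)
    obtain ⟨c, hc⟩ := exists_sec_of_open (F := O (AlgSt.ofSp M)) hY isCartesian_O v
      fun y' y hy' hy k r r' hr hr' e => by
        refine (hb y' hy' r' hr').1 ?_
        show unitSect π y' (fnMap k (v y hy r hr)) = _
        rw [← relRes_unitSect, hv, hv, relRes_comp, e]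
    have hc' : ∀ y hy (r : y ⟶ etaOf E) hr, fnMap r c = v y hy r hr := hc
    refine ⟨c, Mod.RelSect.ext _ _ _ fun ξ α => ?_⟩
    refine Groth.L19.QCohFpqc.eq_of_locally ((O 𝒳).obj ξ) fun p => ?_
    obtain ⟨_, ⟨U, hU, rfl⟩, hpU, -⟩ := (sch (AlgSt.ofSp M) (etaOf E)).isBasis_affineOpens.exists_subset_of_mem_open
      (Set.mem_univ ((baseOver π ξ α).left p.1)) isOpen_univ
    obtain ⟨_, ⟨W, hW, rfl⟩, hpW, hWU⟩ := (sch 𝒳 ξ).isBasis_affineOpens.exists_subset_of_mem_open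
      (show p.1 ∈ (baseOver π ξ α).left ⁻¹ᵁ U from hpU) ((baseOver π ξ α).left ⁻¹ᵁ U).2
    obtain ⟨z, j, hi, hj, ha⟩ := exists_restrict h𝒳 ξ W
    haveI := hi
    obtain ⟨ej, bj⟩ := resTo_bijective (F := O 𝒳) isCartesian_O j hj
    refine ⟨W, hpW, le_top, bj.1 ?_⟩
    rw [resTo_rs, resTo_rs, resTo_top, resTo_top, (unitSect π (etaOf E) c).2 j α, s.2 j α]
    obtain ⟨y, r, hir, hrr, har⟩ := exists_restrict hY (etaOf E) U
    haveI := hir
    have hrange : Set.range (bmap (AlgSt.ofSp M) (π.map j ≫ α)) ⊆ Set.range (bmap (AlgSt.ofSp M) r) := by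
      rw [hrr]
      rintro _ ⟨q, rfl⟩
      have e₁ : bmap (AlgSt.ofSp M) (π.map j ≫ α) =
          (eqToHom (π.w_obj z) : _ ⟶ _).left ≫ bmap 𝒳 j ≫ (baseOver π ξ α).left := by
        rw [bmap_comp_baseOver_left, ← Over.comp_left, baseOver, eqToHom_trans_assoc, eqToHom_refl, Category.id_comp]
      rw [e₁, Scheme.Hom.comp_apply, Scheme.Hom.comp_apply]
      exact hWU (hj.subset ⟨_, rfl⟩)
    obtain ⟨t, ht⟩ := exists_factor_open hY (π.map j ≫ α) r hrange
    show (unitSect π (etaOf E) c).1 z (π.map j ≫ α) = s.1 z (π.map j ≫ α)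
    rw [← ht]
    show (relRes r (unitSect π (etaOf E) c)).1 z t = (relRes r s).1 z t
    rw [relRes_unitSect, hc' y (har hU) r hir, hv]

end Groth.L23.CohAff
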