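import Groth.Agent.L23.RelGen.Push
import Groth.Agent.L23.RelGen.Atlas

/-!
# Base change of an atlas of the category over an object
-/

universe w' v' w v u

open CategoryTheory CategoryTheory.Limits AlgebraicGeometry Opposite TopologicalSpace

set_option backward.isDefEq.respectTransparency false
set_option backward.isDefEq.respectTransparency.types false
set_option linter.style.haveILetI false
set_option linter.unusedSectionVars false
set_option linter.unusedVariables false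
set_option maxHeartbeats 1000000

noncomputable section

namespace Groth.L23.CohAff

open StMod Groth.L23.RelGen

variable {S : Scheme.{u}} {𝒳 : BasedCategory.{v, w} (Over S)} {𝒴 : BasedCategory.{v', w'} (Over S)}
  {π : 𝒳 ⥤ᵇ 𝒴} {η' η : 𝒴.obj} {β : η' ⟶ η}

/-- A cover in the category over `η` of an object over `η'` comes from a cover over `η'`. -/
theorem exists_coverDown (y : (fibCat π η').obj) (𝒰 : Cover ((fibComp π β).obj y)) :
    ∃ (𝒱 : Cover y) (e : 𝒱.ι → 𝒰.ι), (Finite 𝒰.ι → Finite 𝒱.ι) ∧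
      ∀ l, ∃ j : (fibComp π β).obj (𝒱.obj l) ⟶ 𝒰.obj (e l), j ≫ 𝒰.map (e l) = (fibComp π β).map (𝒱.map l) := by
  let yl : 𝒰.ι → (fibCat π η').obj := fun l => CostructuredArrow.mk (π.map (𝒰.map l).left ≫ y.hom)
  let tl : ∀ l, yl l ⟶ y := fun l => CostructuredArrow.homMk (𝒰.map l).left
  let 𝒱 : Cover y := ⟨𝒰.ι, yl, tl, 𝒰.affine, 𝒰.cov⟩
  refine ⟨𝒱, id, fun h => h, fun l => ?_⟩
  refine ⟨CostructuredArrow.homMk (𝟙 _) ?_, CostructuredArrow.hom_ext _ _ (Category.id_comp _)⟩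
  rw [π.toFunctor.map_id, Category.id_comp]
  show (𝒰.obj l).hom = (π.map (𝒰.map l).left ≫ y.hom) ≫ β
  rw [Category.assoc]
  exact (CostructuredArrow.w (𝒰.map l)).symm

theorem isAffine_bc (D : BcData π β) [IsAffine (sch 𝒴 η')] [IsAffine (sch 𝒴 η)] (x : (fibCat π η).obj)
    (hx : IsAffine (sch (fibCat π η) x)) : IsAffine (sch (fibCat π η') (D.pt x)) :=
  IsAffine.of_isIso (D.isPullback x).isoPullback.hom

/-- Base change of an atlas. -/
def bcAtlas (D : BcData π β) [IsAffine (sch 𝒴 η')] [IsAffine (sch 𝒴 η)] (A : Atlas (fibCat π η)) :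
    Atlas (fibCat π η') where
  x₀ := D.pt A.x₀
  aff₀ := isAffine_bc D _ A.aff₀
  loc y hy := by
    obtain ⟨𝒰, hfin, hl⟩ := A.loc ((fibComp π β).obj y) hy
    obtain ⟨𝒱, e, hf, hj⟩ := exists_coverDown y 𝒰
    exact ⟨𝒱, hf hfin, fun l => ⟨D.lift ((hj l).choose ≫ (hl (e l)).some)⟩⟩
  n := A.n
  w k := D.pt (A.w k)
  affw k := isAffine_bc D _ (A.affw k)
  a k := D.ext (A.a k)
  b k := D.ext (A.b k)
  pairs z hz p q := by
    obtain ⟨𝒰, h𝒰⟩ := A.pairs ((fibComp π β).obj z) hz ((fibComp π β).map p ≫ D.q A.x₀)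
      ((fibComp π β).map q ≫ D.q A.x₀)
    obtain ⟨𝒱, e, -, hj⟩ := exists_coverDown z 𝒰
    refine ⟨𝒱, fun l => ?_⟩
    obtain ⟨k, t, ha, hb⟩ := h𝒰 (e l)
    obtain ⟨j, hj⟩ := hj l
    refine ⟨k, D.lift (j ≫ t), D.uniq _ _ ?_, D.uniq _ _ ?_⟩
    · rw [(fibComp π β).toFunctor.map_comp, (fibComp π β).toFunctor.map_comp, Category.assoc, D.ext_q,
        ← Category.assoc, D.lift_q, Category.assoc, ha, ← Category.assoc, hj, Category.assoc]
    · rw [(fibComp π β).toFunctor.map_comp, (fibComp π β).toFunctor.map_comp, Category.assoc, D.ext_q,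
        ← Category.assoc, D.lift_q, Category.assoc, hb, ← Category.assoc, hj, Category.assoc]

end Groth.L23.CohAff
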