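import Groth.Agent.L23.CohAff.Sect
import Groth.Agent.L23.CohAff.BCAtlas
import Mathlib.RingTheory.Flat.Basic

/-!
# Flat base change of sections of a pushforward
-/

universe w' v' w v u

open CategoryTheory CategoryTheory.Limits AlgebraicGeometry Opposite TopologicalSpace
open scoped TensorProduct

set_option backward.isDefEq.respectTransparency false
set_option backward.isDefEq.respectTransparency.types false
set_option linter.style.haveILetI false
set_option linter.unusedSectionVars false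
set_option linter.unusedVariables false
set_option maxHeartbeats 1000000

noncomputable section

namespace Groth.L23.CohAff

open StMod Groth.L23.RelGen

section Square

variable {S : Scheme.{u}} {𝒳 : BasedCategory.{v, w} (Over S)} {F : Mod 𝒳}

/-- Sections over a base change of an affine scheme under the object. -/
theorem exists_bcBase (hF : F.IsCartesian) (hq : F.IsLocQCoh) {x' x : 𝒳.obj} (q : x' ⟶ x) {T' T : Scheme.{u}}
    [IsAffine T'] [IsAffine T] [IsAffine (sch 𝒳 x)] {p' : sch 𝒳 x' ⟶ T'} {p : sch 𝒳 x ⟶ T} {b : T' ⟶ T}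
    (H : IsPullback (bmap 𝒳 q) p' p b) :
    letI := b.appTop.hom.toAlgebra
    letI := Module.compHom (Sec F x) p.appTop.hom
    ∃ E : Γ(T', ⊤) ⊗[Γ(T, ⊤)] Sec F x ≃+ Sec F x', ∀ r m, E (r ⊗ₜ m) = p'.appTop.hom r • F.mapTop q m := by
  haveI : IsAffine (sch 𝒳 x') := IsAffine.of_isIso H.isoPullback.hom
  letI := b.appTop.hom.toAlgebra
  letI := p.appTop.hom.toAlgebra
  letI := (fnMap q).toAlgebra
  letI := p'.appTop.hom.toAlgebra
  letI : Algebra Γ(T, ⊤) (Fn x') := (p'.appTop.hom.comp b.appTop.hom).toAlgebra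
  haveI : IsScalarTower Γ(T, ⊤) Γ(T', ⊤) (Fn x') := IsScalarTower.of_algebraMap_eq fun _ => rfl
  have hsq := isPushout_appTop_of_isPullback H.flip
  haveI : IsScalarTower Γ(T, ⊤) (Fn x) (Fn x') := IsScalarTower.of_algebraMap_eq fun r => by
    exact congr($(hsq.w) r)
  letI := Module.compHom (Sec F x) p.appTop.hom
  haveI : IsScalarTower Γ(T, ⊤) (Fn x) (Sec F x) := IsScalarTower.of_algebraMap_smul fun _ _ => rfl
  haveI : Algebra.IsPushout Γ(T, ⊤) Γ(T', ⊤) (Fn x) (Fn x') := CommRingCat.isPushout_iff_isPushout.mp hsq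
  obtain ⟨E, hE⟩ := exists_bcEquiv hF hq q
  refine ⟨(Algebra.IsPushout.cancelBaseChange Γ(T, ⊤) Γ(T', ⊤) (Fn x) (Fn x') (Sec F x)).symm.toAddEquiv.trans E,
    fun r m => ?_⟩
  show E ((Algebra.IsPushout.cancelBaseChange Γ(T, ⊤) Γ(T', ⊤) (Fn x) (Fn x') (Sec F x)).symm (r ⊗ₜ m)) = _
  rw [Algebra.IsPushout.cancelBaseChange_symm_tmul, hE]
  rfl

end Square

variable {S : Scheme.{u}} {𝒳 : BasedCategory.{v, w} (Over S)} {𝒴 : BasedCategory.{v', w'} (Over S)}
  {π : 𝒳 ⥤ᵇ 𝒴} {η' η : 𝒴.obj} {F G : Mod 𝒳}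

/-- Restriction of sections of a pushforward along a morphism of the target. -/
def relRes (β : η' ⟶ η) : Mod.RelSect π F η →+ Mod.RelSect π F η' where
  toFun s := ⟨fun ξ α => s.1 ξ (α ≫ β), fun ξ' ξ φ α =>
    (s.2 φ (α ≫ β)).trans (congrArg (s.1 ξ') (Category.assoc _ _ _).symm)⟩
  map_zero' := rfl
  map_add' _ _ := rfl

theorem relRes_val (β : η' ⟶ η) (s : Mod.RelSect π F η) (ξ : (fibCat π η').obj) :
    val (relRes β s) ξ = val s ((fibComp π β).obj ξ) := rfl

theorem relSect_smul_val (r : Fn η) (s : Mod.RelSect π F η) (ξ : (fibCat π η).obj) :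
    val (r • s) ξ = (toBase ξ).appTop.hom r • val s ξ := rfl

theorem toBase_fibComp (β : η' ⟶ η) (ξ : (fibCat π η').obj) :
    toBase ((fibComp π β).obj ξ) = toBase ξ ≫ bmap 𝒴 β := by
  show (baseOver π ξ.left (ξ.hom ≫ β)).left = _
  rw [baseOver_comp]
  rfl

theorem relRes_smul (β : η' ⟶ η) (r : Fn η) (s : Mod.RelSect π F η) :
    relRes β (r • s) = fnMap β r • relRes β s := by
  refine Mod.RelSect.ext _ _ _ fun ξ α => ?_
  show val (relRes β (r • s)) (CostructuredArrow.mk α) = val (fnMap β r • relRes β s) (CostructuredArrow.mk α)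
  rw [relRes_val, relSect_smul_val, relSect_smul_val, relRes_val, toBase_fibComp, Scheme.Hom.comp_appTop]
  rfl

theorem relRes_comp {η'' : 𝒴.obj} (γ : η'' ⟶ η') (β : η' ⟶ η) (s : Mod.RelSect π F η) :
    relRes γ (relRes β s) = relRes (γ ≫ β) s :=
  Mod.RelSect.ext _ _ _ fun ξ α => by
    show s.1 ξ ((α ≫ γ) ≫ β) = s.1 ξ (α ≫ γ ≫ β)
    rw [Category.assoc]

theorem relRes_map (β : η' ⟶ η) (u : F ⟶ G) (s : Mod.RelSect π F η) :
    relRes β (Mod.relSectMap π u η s) = Mod.relSectMap π u η' (relRes β s) := rfl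

/-- Restriction of sections as a semilinear map. -/
def relResL (β : η' ⟶ η) : Mod.RelSect π F η →ₛₗ[fnMap β] Mod.RelSect π F η' where
  toFun := relRes β
  map_add' := map_add _
  map_smul' := relRes_smul β

/-- The value at an object as a linear map. -/
def valL (ξ : (fibCat π η).obj) :
    letI := Module.compHom (Sec F ξ.left) (toBase ξ).appTop.hom
    Mod.RelSect π F η →ₗ[Fn η] Sec F ξ.left :=
  letI := Module.compHom (Sec F ξ.left) (toBase ξ).appTop.hom
  { toFun := fun s => val s ξ, map_add' := fun _ _ => rfl, map_smul' := fun _ _ => rfl }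

/-- Restriction along a morphism over `η` as a linear map. -/
def mapL {ξ' ξ : (fibCat π η).obj} (k : ξ' ⟶ ξ) :
    letI := Module.compHom (Sec F ξ.left) (toBase ξ).appTop.hom
    letI := Module.compHom (Sec F ξ'.left) (toBase ξ').appTop.hom
    Sec F ξ.left →ₗ[Fn η] Sec F ξ'.left :=
  letI := Module.compHom (Sec F ξ.left) (toBase ξ).appTop.hom
  letI := Module.compHom (Sec F ξ'.left) (toBase ξ').appTop.hom
  { toFun := F.mapTop k.left
    map_add' := F.mapTop_add _
    map_smul' := fun r m => by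
      refine (F.mapTop_smul k.left ((toBase ξ).appTop.hom r) m).trans ?_
      refine congrArg (fun a : Fn ξ'.left => a • F.mapTop k.left m) ?_
      show _ = (toBase ξ').appTop.hom r
      rw [← bmap_toBase k, Scheme.Hom.comp_appTop]
      rfl }

theorem bc_square (hF : F.IsCartesian) (hq : F.IsLocQCoh) {β : η' ⟶ η} (D : BcData π β) [IsAffine (sch 𝒴 η')]
    [IsAffine (sch 𝒴 η)] (x : (fibCat π η).obj) (hx : IsAffine (sch (fibCat π η) x)) :
    letI := (fnMap β).toAlgebra
    letI := Module.compHom (Sec F x.left) (toBase x).appTop.hom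
    ∃ E : Fn η' ⊗[Fn η] Sec F x.left ≃+ Sec F (D.pt x).left,
      ∀ r m, E (r ⊗ₜ m) = (toBase (D.pt x)).appTop.hom r • F.mapTop (D.q x).left m := by
  haveI : IsAffine (sch 𝒳 x.left) := hx
  exact exists_bcBase hF hq (D.q x).left (b := bmap 𝒴 β) (p := toBase x) (p' := toBase (D.pt x)) (D.isPullback x)

theorem bc_square_natural {β : η' ⟶ η} (D : BcData π β) {x₁ x : (fibCat π η).obj} (k : x₁ ⟶ x) :
    letI := (fnMap β).toAlgebra
    letI := Module.compHom (Sec F x.left) (toBase x).appTop.hom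
    letI := Module.compHom (Sec F x₁.left) (toBase x₁).appTop.hom
    ∀ (E : Fn η' ⊗[Fn η] Sec F x.left ≃+ Sec F (D.pt x).left),
      (∀ r m, E (r ⊗ₜ m) = (toBase (D.pt x)).appTop.hom r • F.mapTop (D.q x).left m) →
    ∀ (E₁ : Fn η' ⊗[Fn η] Sec F x₁.left ≃+ Sec F (D.pt x₁).left),
      (∀ r m, E₁ (r ⊗ₜ m) = (toBase (D.pt x₁)).appTop.hom r • F.mapTop (D.q x₁).left m) →
    ∀ t, E₁ ((mapL k).lTensor (Fn η') t) = F.mapTop (D.ext k).left (E t) := by
  letI := (fnMap β).toAlgebra
  letI := Module.compHom (Sec F x.left) (toBase x).appTop.hom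
  letI := Module.compHom (Sec F x₁.left) (toBase x₁).appTop.hom
  intro E hE E₁ hE₁ t
  induction t using TensorProduct.induction_on with
  | zero => simp only [map_zero]; exact (F.mapTop_zero _).symm
  | tmul r m =>
    rw [LinearMap.lTensor_tmul, hE, hE₁, Mod.mapTop_smul]
    refine congrArg₂ (fun (a : Fn (D.pt x₁).left) b => a • b) ?_ ?_
    · rw [← bmap_toBase (D.ext k), Scheme.Hom.comp_appTop]
      rfl
    · show F.mapTop (D.q x₁).left (F.mapTop k.left m) = _
      rw [← Mod.mapTop_comp, ← Mod.mapTop_comp]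
      exact congrArg (fun j => F.mapTop j m) (congrArg CommaMorphism.left (D.ext_q k)).symm
  | add a b ha hb => simp only [map_add, ha, hb]; exact (F.mapTop_add _ _ _).symm

theorem toChart_natural {β : η' ⟶ η} (D : BcData π β) (x : (fibCat π η).obj)
    (Ψ : letI := (fnMap β).toAlgebra; Fn η' ⊗[Fn η] Mod.RelSect π F η →+ Mod.RelSect π F η')
    (hΨ : letI := (fnMap β).toAlgebra; ∀ r s, Ψ (r ⊗ₜ s) = r • relRes β s) :
    letI := (fnMap β).toAlgebra
    letI := Module.compHom (Sec F x.left) (toBase x).appTop.hom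
    ∀ (E : Fn η' ⊗[Fn η] Sec F x.left ≃+ Sec F (D.pt x).left),
      (∀ r m, E (r ⊗ₜ m) = (toBase (D.pt x)).appTop.hom r • F.mapTop (D.q x).left m) →
    ∀ t, val (Ψ t) (D.pt x) = E ((valL x).lTensor (Fn η') t) := by
  letI := (fnMap β).toAlgebra
  letI := Module.compHom (Sec F x.left) (toBase x).appTop.hom
  intro E hE t
  induction t using TensorProduct.induction_on with
  | zero => simp only [map_zero]; rfl
  | tmul r s =>
    rw [hΨ, LinearMap.lTensor_tmul, hE, relSect_smul_val, relRes_val]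
    exact congrArg _ (val_map s (D.q x)).symm
  | add a b ha hb => simp only [map_add, ← ha, ← hb]; rfl

/-- Sections of a pushforward base change along flat morphisms of affine objects of the target. -/
theorem exists_flatBC (hX : FibCat.IsFibGrpd 𝒳.p) (hY : FibCat.IsFibGrpd 𝒴.p) (hF : F.IsCartesian)
    (hq : F.IsLocQCoh) (β : η' ⟶ η) [IsAffine (sch 𝒴 η')] [IsAffine (sch 𝒴 η)] [Flat (bmap 𝒴 β)]
    (A : Atlas (fibCat π η)) :
    letI := (fnMap β).toAlgebra
    ∃ E : Fn η' ⊗[Fn η] Mod.RelSect π F η ≃+ Mod.RelSect π F η', ∀ r s, E (r ⊗ₜ s) = r • relRes β s := by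
  classical
  obtain ⟨D⟩ := nonempty_bcData hX hY π β
  letI := (fnMap β).toAlgebra
  haveI : Module.Flat (Fn η) (Fn η') := fnMap_flat β
  letI := Module.compHom (Sec F A.x₀.left) (toBase A.x₀).appTop.hom
  letI : ∀ k, Module (Fn η) (Sec F (A.w k).left) := fun k =>
    Module.compHom (Sec F (A.w k).left) (toBase (A.w k)).appTop.hom
  let L : Mod.RelSect π F η →ₗ[Fn η] Sec F A.x₀.left := valL A.x₀
  let d : Sec F A.x₀.left →ₗ[Fn η] ∀ k, Sec F (A.w k).left := LinearMap.pi fun k => mapL (A.a k) - mapL (A.b k)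
  have hL : Function.Injective L := atChart_injective hX hF hq
  have hex : Function.Exact L d := fun m => by
    refine ⟨fun h => exists_relSect hX hF hq fun k => sub_eq_zero.1 (congrFun h k), ?_⟩
    rintro ⟨s, rfl⟩
    funext k
    exact sub_eq_zero.2 (atChart_agree s k)
  have hΨex : ∃ Ψ : Fn η' ⊗[Fn η] Mod.RelSect π F η →+ Mod.RelSect π F η',
      ∀ r s, Ψ (r ⊗ₜ s) = r • relRes β s := by
    refine ⟨TensorProduct.liftAddHom
      { toFun := fun r => { toFun := fun s => r • relRes β s, map_zero' := by rw [map_zero, smul_zero],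
                            map_add' := fun s t => by rw [map_add, smul_add] }
        map_zero' := AddMonoidHom.ext fun s => zero_smul _ _
        map_add' := fun a b => AddMonoidHom.ext fun s => add_smul _ _ _ } (fun c r s => ?_), fun r s => rfl⟩
    show (c • r) • relRes β s = r • relRes β (c • s)
    rw [relRes_smul, Algebra.smul_def, mul_comm, mul_smul]
    rfl
  obtain ⟨Ψ, hΨ⟩ := hΨex
  obtain ⟨E₀, hE₀⟩ := bc_square hF hq D A.x₀ A.aff₀
  choose Ek hEk using fun k => bc_square hF hq D (A.w k) (A.affw k)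
  have key := toChart_natural D A.x₀ Ψ hΨ E₀ hE₀
  have hA' := fun s s' => @atChart_injective _ _ _ π η' F (bcAtlas D A) hX hF hq s s'
  have hd : ∀ (t : Fn η' ⊗[Fn η] Sec F A.x₀.left) k,
      Ek k ((TensorProduct.piRight (Fn η) (Fn η) (Fn η') (fun k => Sec F (A.w k).left) (d.lTensor _ t)) k) =
        F.mapTop (D.ext (A.a k)).left (E₀ t) - F.mapTop (D.ext (A.b k)).left (E₀ t) := fun t k => by
    rw [← bc_square_natural D (A.a k) E₀ hE₀ (Ek k) (hEk k), ← bc_square_natural D (A.b k) E₀ hE₀ (Ek k) (hEk k),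
      ← map_sub]
    refine congrArg (Ek k) ?_
    induction t using TensorProduct.induction_on with
    | zero => simp only [map_zero, sub_zero]; rfl
    | tmul r m =>
      simp only [LinearMap.lTensor_tmul, TensorProduct.piRight_apply, TensorProduct.piRightHom_tmul]
      exact TensorProduct.tmul_sub r _ _
    | add a b ha hb => simp only [map_add, Pi.add_apply, ha, hb]; abel
  refine ⟨AddEquiv.ofBijective Ψ ⟨?_, ?_⟩, hΨ⟩
  · intro t t' e
    refine Module.Flat.lTensor_preserves_injective_linearMap L hL (E₀.injective ?_)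
    exact (key t).symm.trans ((congrArg (fun s => val s (D.pt A.x₀)) e).trans (key t'))
  · intro s'
    let m := E₀.symm (val s' (D.pt A.x₀))
    obtain ⟨t, ht⟩ : m ∈ Set.range (L.lTensor (Fn η')) := by
      refine (Module.Flat.lTensor_exact (Fn η') hex m).1 ?_
      refine (TensorProduct.piRight (Fn η) (Fn η) (Fn η') (fun k => Sec F (A.w k).left)).injective ?_
      rw [map_zero]
      funext k
      refine (Ek k).injective ?_
      rw [hd, AddEquiv.apply_symm_apply, val_map, val_map, sub_self]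
      exact (map_zero (Ek k)).symm
    refine ⟨t, hA' _ _ ?_⟩
    show val (Ψ t) (D.pt A.x₀) = val s' (D.pt A.x₀)
    rw [key, ht, AddEquiv.apply_symm_apply]

end Groth.L23.CohAff
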