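import Groth.Agent.L23.CohAff.Sect
import Groth.Agent.L23.RelGen.QuasiAffine
import Groth.Agent.L23.RelGen.AtlasExists
import Groth.Agent.L23.AffineMor
import Groth.Agent.L24.St.UnivProps
import Groth.Prelude.Def_StMod2

/-!
# Affine morphisms are cohomologically affine
-/

universe w' v' w v u

open CategoryTheory CategoryTheory.Limits AlgebraicGeometry Opposite TopologicalSpace

set_option backward.isDefEq.respectTransparency false
set_option backward.isDefEq.respectTransparency.types false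
set_option linter.style.haveILetI false
set_option linter.unusedSectionVars false
set_option linter.unusedVariables false
set_option maxHeartbeats 1000000

noncomputable section

namespace Groth.L23.CohAff

open StMod Groth.L23.RelGen Groth.L24.St

variable {S : Scheme.{u}}

theorem exists_equiv_of_affine {𝒳 𝒴 : AlgSt.Cat S} (h𝒴 : FibCat.IsFibGrpd 𝒴.p) (f : 𝒳 ⥤ᵇ 𝒴)
    (hf : AlgSt.RepByAlgSpWith AlgSp.IsAffineMor f) (η : 𝒴.obj) (hη : IsAffine (sch 𝒴 η)) :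
    ∃ (W : Over S) (Φ : FibCat.overCat W ⥤ᵇ fibCat f η), IsAffine W.left ∧ Φ.toFunctor.Full ∧
      Φ.toFunctor.EssSurj := by
  obtain ⟨G, ι, hι⟩ := exists_overCat_functor h𝒴 η rfl
  obtain ⟨F, e, he, hP⟩ := hf (𝒴.p.obj η) G
  obtain ⟨W, i, fst, hsq, hW⟩ := hP (Z := 𝒴.p.obj η) hη (𝟙 _)
  haveI : IsIso fst := hsq.isIso_fst_of_isIso
  let K : FibCat.overCat W ⥤ᵇ FibCat.fp G f :=
    BasedFunctor.comp (BasedFunctor.comp (AlgSt.ofOverCat W) (AlgSt.ofSpMap fst)) e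
  have hK : FibCat.IsEquivOver K :=
    isEquivOver_comp (isEquivOver_comp (ofOverCat_isEquivOver W) (ofSpMap_isEquivOver fst)) he
  haveI := L09.Fib.isEquivalence_of_isEquivOver hK
  haveI : (toFib f G ι).Full := ⟨fun {z z'} s => exists_toFib_map f G ι h𝒴 s⟩
  haveI : (toFib f G ι).EssSurj := ⟨fun x => exists_toFib_iso f G ι h𝒴 hι x⟩
  refine ⟨W, BasedFunctor.comp K (toFibB f G ι), hW, ?_, ?_⟩
  · show (K.toFunctor ⋙ toFib f G ι).Full
    infer_instance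
  · show (K.toFunctor ⋙ toFib f G ι).EssSurj
    infer_instance

/-- An atlas from a terminal object over an affine scheme. -/
theorem exists_atlas_of_affine {𝒳 𝒴 : AlgSt.Cat S} (h𝒳 : FibCat.IsFibGrpd 𝒳.p) (h𝒴 : FibCat.IsFibGrpd 𝒴.p)
    (f : 𝒳 ⥤ᵇ 𝒴) (hf : AlgSt.RepByAlgSpWith AlgSp.IsAffineMor f) (η : 𝒴.obj) (hη : IsAffine (sch 𝒴 η)) :
    ∃ A : Atlas (fibCat f η), ∀ k, A.a k = A.b k := by
  obtain ⟨W, Φ, hW, hfull, hess⟩ := exists_equiv_of_affine h𝒴 f hf η hη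
  haveI := hfull
  haveI := hess
  let x₀ := Φ.obj (idObj W)
  have hx₀ : IsAffine (sch (fibCat f η) x₀) :=
    haveI : IsAffine (sch (FibCat.overCat W) (idObj W)) := hW
    IsAffine.of_isIso (eqToHom (sch_obj_eq Φ (idObj W)))
  have hto : ∀ x : (fibCat f η).obj, Nonempty (x ⟶ x₀) := fun x =>
    ⟨(Φ.toFunctor.objObjPreimageIso x).inv ≫ Φ.map (L09.Fib.toTerm (Φ.toFunctor.objPreimage x))⟩
  have hsub : ∀ (x : (fibCat f η).obj) (p q : x ⟶ x₀), p = q := fun x p q => by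
    rw [← cancel_epi (Φ.toFunctor.objObjPreimageIso x).hom]
    obtain ⟨k, hk⟩ := Φ.toFunctor.map_surjective ((Φ.toFunctor.objObjPreimageIso x).hom ≫ p)
    obtain ⟨l, hl⟩ := Φ.toFunctor.map_surjective ((Φ.toFunctor.objObjPreimageIso x).hom ≫ q)
    rw [← hk, ← hl, toTerm_unique k, toTerm_unique l]
  have hone : ∀ z : (fibCat f η).obj, IsAffine (sch (fibCat f η) z) →
      ∃ 𝒰 : Cover z, Finite 𝒰.ι ∧ ∀ l, ∃ j : 𝒰.obj l ⟶ z, j = 𝒰.map l := by
    intro z hz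
    refine ⟨⟨PUnit, fun _ => z, fun _ => 𝟙 z, fun _ => hz, ⟨fun _ => ?_, fun p => ⟨PUnit.unit, p, ?_⟩⟩⟩,
      (inferInstance : Finite PUnit.{u + 1}), fun l => ⟨_, rfl⟩⟩
    · rw [bmap_id]; infer_instance
    · rw [bmap_id]; rfl
  refine ⟨⟨x₀, hx₀, fun z hz => ?_, 1, fun _ => x₀, fun _ => hx₀, fun _ => 𝟙 x₀, fun _ => 𝟙 x₀, fun z hz p q => ?_⟩,
    fun _ => rfl⟩
  · obtain ⟨𝒰, hfin, -⟩ := hone z hz
    exact ⟨𝒰, hfin, fun l => hto _⟩
  · obtain ⟨𝒰, -, -⟩ := hone z hz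
    refine ⟨𝒰, fun l => ⟨0, (hto _).some, ?_, ?_⟩⟩ <;> exact hsub _ _ _

variable {𝒳 : AlgSt.Cat S} {M : AlgSp.Space S}

/-- Affine morphisms are cohomologically affine. -/
theorem isCohAffine_of_affine (h𝒳 : FibCat.IsFibGrpd 𝒳.p) (π : 𝒳 ⥤ᵇ AlgSt.ofSp M.obj)
    (hπ : AlgSt.RepByAlgSpWith AlgSp.IsAffineMor π) : StMod.IsCohAffine π := by
  intro F G u hu E hE t
  obtain ⟨A, hA⟩ := exists_atlas_of_affine h𝒳 (ofSp_isFibGrpd _) π hπ (etaOf E) hE
  obtain ⟨m, hm⟩ := hu A.x₀.left A.aff₀ (atChart A t)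
  obtain ⟨s, hs⟩ := exists_relSect h𝒳 F.property.1 F.property.2 (m := m) fun k => by rw [hA k]
  refine ⟨s, atChart_injective (A := A) h𝒳 G.property.1 G.property.2 ?_⟩
  show (u.hom.app A.x₀.left).app ⊤ (atChart A s) = atChart A t
  exact (congrArg (fun z => (u.hom.app A.x₀.left).app ⊤ z) hs).trans hm

/-- Affine morphisms are quasi-compact. -/
theorem isQuasiCompactMor_of_affine (h𝒳 : FibCat.IsFibGrpd 𝒳.p) (π : 𝒳 ⥤ᵇ AlgSt.ofSp M.obj)
    (hπ : AlgSt.RepByAlgSpWith AlgSp.IsAffineMor π) : AlgSt.IsQuasiCompactMor Scheme.fppfPrecoverage π := by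
  have h₀ : AlgSt.RepByAlgSpWith AlgSp.IsQuasiCompactMor π :=
    Groth.L24.St.repWith_mono (fun _ _ _ _ h => Groth.L23.isQuasiCompactMor_of_repWith
      ⟨(Groth.L23.repWith_isAffineHom_of_isAffineMor h).1, fun _ _ g fst snd sq =>
        haveI : IsAffineHom snd.left := (Groth.L23.repWith_isAffineHom_of_isAffineMor h).2 g fst snd sq
        show QuasiCompact snd.left from inferInstance⟩) hπ
  exact (repWith_qcMor_iff h𝒳 (ofSp_isFibGrpd _) (repWith_rep1 h₀)).1 h₀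

end Groth.L23.CohAff
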