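import Groth.Agent.L23.CohAff.Local
import Groth.Agent.L23.RelGen.Atlas
import Groth.Agent.L23.RelGen.Desc
import Groth.Agent.L23.RelGen.FibCat
import Groth.Prelude.Def_StMod6

/-!
# Sections of a pushforward through an atlas of the category over the object
-/

universe w' v' w v u

open CategoryTheory CategoryTheory.Limits AlgebraicGeometry Opposite TopologicalSpace

set_option backward.isDefEq.respectTransparency false
set_option backward.isDefEq.respectTransparency.types false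
set_option linter.style.haveILetI false
set_option linter.unusedSectionVars false
set_option linter.unusedVariables false
set_option maxHeartbeats 1000000

noncomputable section

namespace Groth.L23.CohAff

open StMod Groth.L23.RelGen

variable {S : Scheme.{u}} {𝒳 : BasedCategory.{v, w} (Over S)} {𝒴 : BasedCategory.{v', w'} (Over S)}
  {π : 𝒳 ⥤ᵇ 𝒴} {η : 𝒴.obj} {F : Mod 𝒳}

/-- The value of a section of the pushforward at an object over the object. -/
abbrev val (s : Mod.RelSect π F η) (ξ : (fibCat π η).obj) : Sec F ξ.left := s.1 ξ.left ξ.hom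

theorem val_map (s : Mod.RelSect π F η) {z ξ : (fibCat π η).obj} (k : z ⟶ ξ) :
    F.mapTop k.left (val s ξ) = val s z := by
  rw [val, val, s.2 k.left ξ.hom, CostructuredArrow.w k]

/-- A cover over the object gives a cover of the underlying object. -/
def leftCover {ξ : (fibCat π η).obj} (𝒰 : Cover ξ) : Cover (𝒳 := 𝒳) ξ.left :=
  ⟨𝒰.ι, fun l => (𝒰.obj l).left, fun l => (𝒰.map l).left, 𝒰.affine, 𝒰.cov⟩

instance finite_leftCover {ξ : (fibCat π η).obj} (𝒰 : Cover ξ) [Finite 𝒰.ι] : Finite (leftCover 𝒰).ι :=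
  inferInstanceAs (Finite 𝒰.ι)

/-- An object over `η` mapping to another one. -/
abbrev over' {ξ : (fibCat π η).obj} {z : 𝒳.obj} (p : z ⟶ ξ.left) : (fibCat π η).obj :=
  CostructuredArrow.mk (π.map p ≫ ξ.hom)

variable (A : Atlas (fibCat π η))

/-- The value of a section at the chart. -/
abbrev atChart (s : Mod.RelSect π F η) : Sec F A.x₀.left := val s A.x₀

variable {A}

theorem atChart_agree (s : Mod.RelSect π F η) (k : Fin A.n) :
    F.mapTop (A.a k).left (atChart A s) = F.mapTop (A.b k).left (atChart A s) := by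
  rw [atChart, val_map, val_map]

theorem atChart_injective (hX : FibCat.IsFibGrpd 𝒳.p) (hF : F.IsCartesian) (hq : F.IsLocQCoh) :
    Function.Injective (atChart (F := F) A) := by
  intro s t e
  refine Mod.RelSect.ext _ _ _ fun ξ α => sec_ext hX hF fun y hy r => ?_
  rw [s.2 r α, t.2 r α]
  let ζ : (fibCat π η).obj := CostructuredArrow.mk (π.map r ≫ α)
  obtain ⟨𝒰, -, hl⟩ := A.loc ζ hy
  haveI : IsAffine (sch 𝒳 ζ.left) := hy
  refine (leftCover 𝒰).ext hF hq (val s ζ) (val t ζ) fun l => ?_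
  show F.mapTop (𝒰.map l).left (val s ζ) = F.mapTop (𝒰.map l).left (val t ζ)
  rw [val_map, val_map, ← val_map s (hl l).some, ← val_map t (hl l).some]
  exact congrArg _ e

variable (A)

/-- `n` is the value at `ξ` of the section with value `m` at the chart. -/
def IsVal (m : Sec F A.x₀.left) (ξ : (fibCat π η).obj) (n : Sec F ξ.left) : Prop :=
  ∀ (z : (fibCat π η).obj) (_ : IsAffine (sch (fibCat π η) z)) (k : z ⟶ ξ) (t : z ⟶ A.x₀),
    F.mapTop k.left n = F.mapTop t.left m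

variable {A}

theorem isVal_map {m : Sec F A.x₀.left} {ξ' ξ : (fibCat π η).obj} (φ : ξ' ⟶ ξ) {n : Sec F ξ.left}
    (h : IsVal A m ξ n) : IsVal A m ξ' (F.mapTop φ.left n) := fun z hz k t => by
  rw [← Mod.mapTop_comp]
  exact h z hz (k ≫ φ) t

theorem isVal_unique (hX : FibCat.IsFibGrpd 𝒳.p) (hF : F.IsCartesian) (hq : F.IsLocQCoh) {m : Sec F A.x₀.left}
    {ξ : (fibCat π η).obj} {n n' : Sec F ξ.left} (h : IsVal A m ξ n) (h' : IsVal A m ξ n') : n = n' := by
  refine sec_ext hX hF fun y hy r => ?_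
  let ζ : (fibCat π η).obj := over' r
  let r' : ζ ⟶ ξ := CostructuredArrow.homMk r
  obtain ⟨𝒰, -, hl⟩ := A.loc ζ hy
  haveI : IsAffine (sch 𝒳 ζ.left) := hy
  refine (leftCover 𝒰).ext hF hq _ _ fun l => ?_
  show F.mapTop (𝒰.map l).left (F.mapTop r n) = F.mapTop (𝒰.map l).left (F.mapTop r n')
  rw [← Mod.mapTop_comp, ← Mod.mapTop_comp]
  exact (h _ (𝒰.affine l) (𝒰.map l ≫ r') (hl l).some).trans (h' _ (𝒰.affine l) (𝒰.map l ≫ r') (hl l).some).symm

/-- Lifts to the chart give equal restrictions of an agreeing value. -/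
theorem agree_lifts (hF : F.IsCartesian) (hq : F.IsLocQCoh) {m : Sec F A.x₀.left}
    (hm : ∀ k, F.mapTop (A.a k).left m = F.mapTop (A.b k).left m) (z : (fibCat π η).obj)
    (hz : IsAffine (sch (fibCat π η) z)) (p q : z ⟶ A.x₀) : F.mapTop p.left m = F.mapTop q.left m := by
  obtain ⟨𝒰, h𝒰⟩ := A.pairs z hz p q
  haveI : IsAffine (sch 𝒳 z.left) := hz
  refine (leftCover 𝒰).ext hF hq _ _ fun l => ?_
  obtain ⟨k, t, ha, hb⟩ := h𝒰 l
  show F.mapTop (𝒰.map l).left (F.mapTop p.left m) = F.mapTop (𝒰.map l).left (F.mapTop q.left m)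
  rw [← Mod.mapTop_comp, ← Mod.mapTop_comp, show (𝒰.map l).left ≫ p.left = t.left ≫ (A.a k).left from
      (congrArg CommaMorphism.left ha).symm, show (𝒰.map l).left ≫ q.left = t.left ≫ (A.b k).left from
      (congrArg CommaMorphism.left hb).symm, Mod.mapTop_comp, Mod.mapTop_comp, hm k]

theorem exists_isVal_affine (hX : FibCat.IsFibGrpd 𝒳.p) (hF : F.IsCartesian) (hq : F.IsLocQCoh)
    {m : Sec F A.x₀.left} (hm : ∀ k, F.mapTop (A.a k).left m = F.mapTop (A.b k).left m) (ξ : (fibCat π η).obj)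
    (hξ : IsAffine (sch (fibCat π η) ξ)) : ∃ n, IsVal A m ξ n := by
  obtain ⟨𝒰, hfin, hl⟩ := A.loc ξ hξ
  haveI := hfin
  haveI : IsAffine (sch 𝒳 ξ.left) := hξ
  obtain ⟨n, hn⟩ := (leftCover 𝒰).exists_glue hX hF hq (fun l => F.mapTop (hl l).some.left m)
    fun z hz k l p q e => by
      let ζ : (fibCat π η).obj := over' (ξ := 𝒰.obj k) p
      let p' : ζ ⟶ 𝒰.obj k := CostructuredArrow.homMk p
      let q' : ζ ⟶ 𝒰.obj l := CostructuredArrow.homMk q (by
        show π.map q ≫ (𝒰.obj l).hom = π.map p ≫ (𝒰.obj k).hom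
        have e' : p ≫ (𝒰.map k).left = q ≫ (𝒰.map l).left := e
        rw [← CostructuredArrow.w (𝒰.map l), ← CostructuredArrow.w (𝒰.map k), ← Category.assoc, ← Category.assoc,
          ← π.toFunctor.map_comp, ← π.toFunctor.map_comp, e'])
      show F.mapTop p (F.mapTop (hl k).some.left m) = F.mapTop q (F.mapTop (hl l).some.left m)
      rw [← Mod.mapTop_comp, ← Mod.mapTop_comp]
      exact agree_lifts hF hq hm ζ hz (p' ≫ (hl k).some) (q' ≫ (hl l).some)
  refine ⟨n, fun z hz k t => ?_⟩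
  haveI : IsAffine (sch 𝒳 z.left) := hz
  obtain ⟨𝒵, -, h𝒵⟩ := 𝒰.exists_pullback (isFibGrpd_fibCat hX π η) k
  refine (leftCover 𝒵).ext hF hq _ _ fun j => ?_
  obtain ⟨l, b, hb⟩ := h𝒵 j
  show F.mapTop (𝒵.map j).left (F.mapTop k.left n) = F.mapTop (𝒵.map j).left (F.mapTop t.left m)
  rw [← Mod.mapTop_comp, ← Mod.mapTop_comp, show (𝒵.map j).left ≫ k.left = b.left ≫ (𝒰.map l).left from
    (congrArg CommaMorphism.left hb).symm, Mod.mapTop_comp (F := F) b.left]
  rw [show F.mapTop (𝒰.map l).left n = F.mapTop (hl l).some.left m from hn l, ← Mod.mapTop_comp]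
  exact agree_lifts hF hq hm _ (𝒵.affine j) (b ≫ (hl l).some) (𝒵.map j ≫ t)

theorem isVal_over {m : Sec F A.x₀.left} {ξ : (fibCat π η).obj} (n : Sec F ξ.left)
    (h : ∀ (z : (fibCat π η).obj), IsAffine (sch (fibCat π η) z) → ∀ k : z ⟶ ξ,
      ∀ (t : z ⟶ A.x₀), F.mapTop k.left n = F.mapTop t.left m) : IsVal A m ξ n := h

/-- The object over `η` of a morphism to an object over `η`. -/
theorem over'_natural {ξ : (fibCat π η).obj} {y' y : 𝒳.obj} (k : y' ⟶ y) (r : y ⟶ ξ.left) :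
    ∃ k' : over' (π := π) (k ≫ r) ⟶ over' r, k'.left = k :=
  ⟨CostructuredArrow.homMk k (show π.map k ≫ π.map r ≫ ξ.hom = π.map (k ≫ r) ≫ ξ.hom by
    rw [π.toFunctor.map_comp, Category.assoc]), rfl⟩

theorem over'_self {ξ z : (fibCat π η).obj} (k : z ⟶ ξ) :
    ∃ i : z ⟶ over' (π := π) k.left, i.left = 𝟙 z.left :=
  ⟨CostructuredArrow.homMk (𝟙 _) (show π.map (𝟙 z.left) ≫ π.map k.left ≫ ξ.hom = z.hom by
    rw [π.toFunctor.map_id, Category.id_comp]
    exact CostructuredArrow.w k), rfl⟩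

theorem isVal_natural (hX : FibCat.IsFibGrpd 𝒳.p) (hF : F.IsCartesian) (hq : F.IsLocQCoh)
    {m : Sec F A.x₀.left} {ζ' ζ : (fibCat π η).obj} (k' : ζ' ⟶ ζ) {k : ζ'.left ⟶ ζ.left} (e : k'.left = k)
    {n : Sec F ζ.left} {n' : Sec F ζ'.left} (h : IsVal A m ζ n) (h' : IsVal A m ζ' n') : F.mapTop k n = n' := by
  subst e
  exact isVal_unique hX hF hq (isVal_map k' h) h'

theorem isVal_self {m : Sec F A.x₀.left} {z ζ : (fibCat π η).obj} (i : z ⟶ ζ) {j : z.left ⟶ ζ.left}
    (e : i.left = j) {n : Sec F ζ.left} (h : IsVal A m ζ n) (hz : IsAffine (sch (fibCat π η) z)) (t : z ⟶ A.x₀) :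
    F.mapTop j n = F.mapTop t.left m := by
  subst e
  exact h z hz i t

theorem exists_isVal (hX : FibCat.IsFibGrpd 𝒳.p) (hF : F.IsCartesian) (hq : F.IsLocQCoh)
    {m : Sec F A.x₀.left} (hm : ∀ k, F.mapTop (A.a k).left m = F.mapTop (A.b k).left m) (ξ : (fibCat π η).obj) :
    ∃ n, IsVal A m ξ n := by
  have hex : ∀ (y : 𝒳.obj) (hy : IsAffine (sch 𝒳 y)) (r : y ⟶ ξ.left),
      ∃ n : Sec F y, IsVal A m (over' r) n := fun y hy r => exists_isVal_affine hX hF hq hm (over' r) hy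
  let v : ∀ (y : 𝒳.obj), IsAffine (sch 𝒳 y) → (y ⟶ ξ.left) → Sec F y := fun y hy r => (hex y hy r).choose
  have hv : ∀ y hy r, IsVal A m (over' r) (v y hy r) := fun y hy r => (hex y hy r).choose_spec
  obtain ⟨n, hn⟩ := exists_sec_of_affine hX hF v fun y' y hy' hy k r => by
    obtain ⟨k', hk'⟩ := over'_natural (π := π) (η := η) k r
    exact isVal_natural hX hF hq k' hk' (hv y hy r) (hv y' hy' (k ≫ r))
  refine ⟨n, isVal_over n fun z hz k t => ?_⟩
  obtain ⟨i, hi⟩ := over'_self k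
  refine (hn z.left hz k.left).trans ?_
  exact (Mod.mapTop_id F z.left _).symm.trans (isVal_self i hi (hv z.left hz k.left) hz t)

/-- A value at the chart agreeing on the overlaps is the value of a section. -/
theorem exists_relSect (hX : FibCat.IsFibGrpd 𝒳.p) (hF : F.IsCartesian) (hq : F.IsLocQCoh)
    {m : Sec F A.x₀.left} (hm : ∀ k, F.mapTop (A.a k).left m = F.mapTop (A.b k).left m) :
    ∃ s : Mod.RelSect π F η, atChart A s = m := by
  let n : ∀ ξ : (fibCat π η).obj, Sec F ξ.left := fun ξ => (exists_isVal hX hF hq hm ξ).choose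
  have hn : ∀ ξ, IsVal A m ξ (n ξ) := fun ξ => (exists_isVal hX hF hq hm ξ).choose_spec
  refine ⟨⟨fun ξ α => n (CostructuredArrow.mk α), fun ξ' ξ φ α => ?_⟩, ?_⟩
  · let φ' : (CostructuredArrow.mk (π.map φ ≫ α) : (fibCat π η).obj) ⟶ CostructuredArrow.mk α :=
      CostructuredArrow.homMk φ
    exact isVal_natural hX hF hq φ' rfl (hn _) (hn _)
  · have h := isVal_self (𝟙 A.x₀) (j := 𝟙 A.x₀.left) rfl (hn A.x₀) A.aff₀ (𝟙 A.x₀)
    exact (Mod.mapTop_id F _ _).symm.trans (h.trans (Mod.mapTop_id F _ _))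

end Groth.L23.CohAff
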